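import Groth.Agent.Curves.K466.CastNum
import Groth.Agent.Zeta.K466.PCPole
import Groth.Agent.Models.FFRR3
import Mathlib.GroupTheory.CosetCover

/-!
# Castelnuovo's bound for function fields of characteristic zero

`genus_le`: for `y_1, …, y_r ∈ L(D)`, with `1, y_i` linearly independent, generating the function
field and with pole divisors of supremum `D`, the genus is at most `2 d + 1 - 3 r`, where
`d = deg D` satisfies `2 r - 1 ≤ d ≤ 3 r - 2`.
-/

set_option autoImplicit false
universe u v
open WithZero Polynomial IntermediateField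

namespace K466.CastFF

open Groth.Agent.MiscA.WCPlace Groth.Agent.MiscA.WCPlaceCrv Groth.Agent.MiscA.WCPlaceRes
  Groth.Agent.Models.FFLen Groth.Agent.Models.FFRR K466.PCDeg K466.PCPole K466.Spread K466.CastLin

section field

variable {k : Type u} {K : Type v} [Field k] [Field K] [Algebra k K]

open scoped IntermediateField.algebraAdjoinAdjoin in
/-- `K` is algebraic over `k(x)` for every transcendental `x`. -/
theorem isAlgebraic_adjoin {t x : K} (h : IsSep k K t) (hx : Transcendental k x) :
    Algebra.IsAlgebraic (IntermediateField.adjoin k {x}) K := by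
  have h1 := h.fin
  have h3 : Algebra.IsAlgebraic (Algebra.adjoin k {t}) K :=
    (IsFractionRing.comap_isAlgebraic_iff (A := Algebra.adjoin k {t})
      (K := IntermediateField.adjoin k {t}) (C := K)).mpr inferInstance
  have h4 : Algebra.trdeg k K ≤ 1 := by
    refine (Algebra.IsAlgebraic.trdeg_le_cardinalMk k ({t} : Set K)).trans ?_
    simp
  have h5 : AlgebraicIndependent k (fun _ : Unit => x) :=
    (algebraicIndependent_unique_type_iff (x := fun _ : Unit => x)).2 hx
  have h6 := h5.isTranscendenceBasis_of_lift_trdeg_le_of_finite (by simpa using h4)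
  have h7 := h6.isAlgebraic_field
  rwa [Set.range_const] at h7

/-- In characteristic zero, transcendental elements are separating. -/
theorem isSep_of_transcendental [CharZero k] {t x : K} (h : IsSep k K t) (hx : Transcendental k x) :
    IsSep k K x := by
  have halg := isAlgebraic_adjoin h hx
  have h1 := h.fin
  have h2 : Algebra.EssFiniteType k (IntermediateField.adjoin k {t}) :=
    IntermediateField.essFiniteType_iff.mpr
      (IntermediateField.fg_adjoin_of_finite (Set.finite_singleton t))
  have h3 : Algebra.EssFiniteType k K := Algebra.EssFiniteType.comp k (IntermediateField.adjoin k {t}) K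
  let M := IntermediateField.adjoin k {x}
  have h4 : Algebra.EssFiniteType M K := Algebra.EssFiniteType.of_comp k M K
  obtain ⟨S, hS⟩ := IntermediateField.fg_top M K
  have h5 : FiniteDimensional M (IntermediateField.adjoin M (S : Set K)) :=
    IntermediateField.finiteDimensional_adjoin fun y _ =>
      (Algebra.IsAlgebraic.isAlgebraic (R := M) y).isIntegral
  have hfin : FiniteDimensional M K := by
    rw [hS] at h5
    exact LinearEquiv.finiteDimensional (IntermediateField.topEquiv (F := M) (E := K)).toLinearEquiv
  have hM : CharZero M := charZero_of_injective_algebraMap (algebraMap k M).injective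
  exact ⟨hx, hfin, inferInstance⟩

end field

section general

variable {k K X : Type*} [Field k] [Field K] [Algebra k K] {C : Crv k K X} {κ : Type} [Fintype κ]

theorem sum_mem_L {D : X →₀ ℤ} (y : κ → K) (hy : ∀ i, y i ∈ C.L D) (a : κ → k) :
    ∑ i, algebraMap k K (a i) * y i ∈ C.L D := by
  refine Submodule.sum_mem _ fun i _ => ?_
  rw [← Algebra.smul_def]
  exact Submodule.smul_mem _ _ (hy i)

/-- A general member has the expected poles. -/
theorem exists_general [Infinite k] (D : X →₀ ℤ) (y : κ → K) (hy : ∀ i, y i ∈ C.L D)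
    (hD : ∀ P ∈ D.support, ∃ i, C.v P (y i) = exp (D P)) :
    ∃ a : κ → k, ∀ P ∈ D.support, C.v P (∑ i, algebraMap k K (a i) * y i) = exp (D P) := by
  classical
  let W : D.support → Submodule k (κ → k) := fun P =>
    { carrier := {a | C.v P (∑ i, algebraMap k K (a i) * y i) < exp (D P)}
      add_mem' := by
        intro a b ha hb
        rw [Set.mem_ofPred_eq] at *
        have h1 : ∑ i, algebraMap k K ((a + b) i) * y i =
            ∑ i, algebraMap k K (a i) * y i + ∑ i, algebraMap k K (b i) * y i := by
          rw [← Finset.sum_add_distrib]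
          refine Finset.sum_congr rfl fun i _ => ?_
          rw [Pi.add_apply, map_add, add_mul]
        rw [h1]
        exact (C.v P).map_add_lt ha hb
      zero_mem' := by
        rw [Set.mem_ofPred_eq]
        simp
      smul_mem' := by
        intro c a ha
        rw [Set.mem_ofPred_eq] at *
        have h1 : ∑ i, algebraMap k K ((c • a) i) * y i =
            algebraMap k K c * ∑ i, algebraMap k K (a i) * y i := by
          rw [Finset.mul_sum]
          refine Finset.sum_congr rfl fun i _ => ?_
          rw [Pi.smul_apply, smul_eq_mul, map_mul, mul_assoc]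
        rw [h1, map_mul]
        exact lt_of_le_of_lt (mul_le_of_le_one_left' (C.v_const P c)) ha }
  have h1 : (⋃ P, (W P : Set (κ → k))) ≠ Set.univ := by
    intro hcov
    obtain ⟨P, hP⟩ := Subspace.exists_eq_top_of_iUnion_eq_univ hcov
    obtain ⟨i, hi⟩ := hD P P.2
    have h2 : Pi.single i 1 ∈ W P := by rw [hP]; trivial
    have h3 : C.v P (∑ j, algebraMap k K ((Pi.single i 1 : κ → k) j) * y j) < exp (D P) := h2
    have h4 : ∑ j, algebraMap k K ((Pi.single i 1 : κ → k) j) * y j = y i := by
      rw [Finset.sum_eq_single i]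
      · rw [Pi.single_eq_same, map_one, one_mul]
      · intro j _ hj
        rw [Pi.single_eq_of_ne hj, map_zero, zero_mul]
      · intro h; exact absurd (Finset.mem_univ _) h
    rw [h4, hi] at h3
    exact lt_irrefl _ h3
  obtain ⟨a, ha⟩ := (Set.ne_univ_iff_exists_notMem _).1 h1
  refine ⟨a, fun P hP => le_antisymm ((Crv.mem_L C).1 (sum_mem_L y hy a) P) ?_⟩
  rw [Set.mem_iUnion, not_exists] at ha
  exact not_lt.1 (ha ⟨P, hP⟩)

theorem pole_eq {D : X →₀ ℤ} (hD : 0 ≤ D) {u : K} (hu0 : u ≠ 0) (hu : u ∈ C.L D)
    (h : ∀ P ∈ D.support, C.v P u = exp (D P)) : pole C u = D := by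
  ext P
  rw [pole_apply]
  have h0 := hD P
  rw [Finsupp.coe_zero, Pi.zero_apply] at h0
  by_cases hP : P ∈ D.support
  · have h1 := h P hP
    rw [C.v_eq_exp hu0, exp_inj] at h1
    rw [h1, max_eq_left h0]
  · have h1 := (Crv.mem_L C).1 hu P
    rw [C.v_eq_exp hu0, exp_le_exp, Finsupp.notMem_support_iff.1 hP] at h1
    rw [Finsupp.notMem_support_iff.1 hP, max_eq_right h1]

end general

/-- powers of the linear system lie in `L(nD)`. -/
theorem V_le {k K X : Type u} [Field k] [Field K] [Algebra k K] {C : Crv k K X} {ι : Type} (x : ι → K) {D : X →₀ ℤ} (hx : ∀ i, x i ∈ C.L D) (n : ℕ) :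
    V k x n ≤ C.L (n • D) := by
  induction n with
  | zero =>
    rw [V, pow_zero, zero_smul, Submodule.one_le]
    exact one_mem_L le_rfl
  | succ n ih =>
    have h1 : V k x (n + 1) = V k x n * Submodule.span k (Set.range x) := pow_succ _ _
    rw [h1, Submodule.mul_le]
    intro f hf g hg
    rw [succ_nsmul]
    refine mul_mem_L (ih hf) ?_
    have h2 : Submodule.span k (Set.range x) ≤ C.L D := by
      rw [Submodule.span_le]
      rintro _ ⟨i, rfl⟩
      exact hx i
    exact h2 hg

/-- **Castelnuovo's bound** for function fields in characteristic zero. -/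
theorem genus_le {k K : Type u} [Field k] [IsAlgClosed k] [CharZero k] [Field K] [Algebra k K]
    (h : ∃ t : K, IsSep k K t) {κ : Type} [Fintype κ] {r d : ℕ} (hκ : Fintype.card κ = r) (hr : 2 ≤ r)
    (hd : 2 * r ≤ d + 1) (hd' : d + 2 ≤ 3 * r) (D : Place k K →₀ ℤ) (hD0 : 0 ≤ D)
    (hdeg : (crv h).deg D = d) (y : κ → K) (hy : ∀ i, y i ∈ (crv h).L D)
    (hD : ∀ P ∈ D.support, ∃ i, (crv h).v P (y i) = exp (D P))
    (hx : LinearIndependent k (fun o : Option κ => o.elim 1 y))
    (hgen : IntermediateField.adjoin k (Set.range y) = ⊤) :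
    ((crv h).i 0 : ℤ) ≤ 2 * d + 1 - 3 * r := by
  classical
  obtain ⟨a, ha⟩ := exists_general D y hy hD
  set u : K := ∑ i, algebraMap k K (a i) * y i with hu
  have huL : u ∈ (crv h).L D := sum_mem_L y hy a
  have hDne : D ≠ 0 := by
    rintro rfl
    rw [map_zero] at hdeg
    omega
  obtain ⟨P, hP⟩ := Finsupp.ne_iff.1 hDne
  rw [Finsupp.coe_zero, Pi.zero_apply] at hP
  have hPpos : 0 < D P := lt_of_le_of_ne (hD0 P) (Ne.symm hP)
  have huP : 1 < (crv h).v P u := by
    rw [ha P (Finsupp.mem_support_iff.2 hP), ← exp_zero, exp_lt_exp]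
    exact hPpos
  have hu0 : u ≠ 0 := by
    intro h0
    rw [h0, map_zero] at huP
    exact absurd huP (by simp)
  have htr : Transcendental k u := by
    intro halg
    have h1 : (minpoly k u).degree = 1 :=
      IsAlgClosed.degree_eq_one_of_irreducible k (minpoly.irreducible halg.isIntegral)
    obtain ⟨c, hc⟩ := minpoly.mem_range_of_degree_eq_one k u h1
    rw [← hc] at huP
    exact absurd huP (not_lt.2 ((crv h).v_const P c))
  obtain ⟨t, ht⟩ := h
  have hsu : IsSep k K u := isSep_of_transcendental ht htr
  have hpole : pole (crv ⟨t, ht⟩) u = D := pole_eq hD0 hu0 huL ha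
  have h1 := deg_pole_le hsu (Module.finrank (IntermediateField.adjoin k {u}) K) le_rfl
  rw [crv_eq hsu ht, hpole, hdeg] at h1
  have h2 : d ≤ Module.finrank (IntermediateField.adjoin k {u}) K := by exact_mod_cast h1
  have hfin := hsu.fin
  let b := Module.finBasis (IntermediateField.adjoin k {u}) K
  let e : Fin d → K := fun j => b (Fin.castLE h2 j)
  have heLI : LinearIndependent (IntermediateField.adjoin k {u}) e :=
    b.linearIndependent.comp _ (Fin.castLE_injective h2)
  have he : LIp k u e := by
    intro p hp
    have h3 := Fintype.linearIndependent_iff.1 heLI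
      (fun j => ⟨aeval u (p j), IntermediateField.algebra_adjoin_le_adjoin k {u}
        (by rw [Algebra.adjoin_singleton_eq_range_aeval]; exact ⟨p j, rfl⟩)⟩) (by
      rw [← hp]
      refine Finset.sum_congr rfl fun j _ => ?_
      rw [Algebra.smul_def]
      rfl)
    funext j
    have h4 : aeval u (p j) = 0 := congrArg Subtype.val (h3 j)
    exact (injective_iff_map_eq_zero _).1 (transcendental_iff_injective.1 htr) _ h4
  have halg : Algebra.IsAlgebraic (IntermediateField.adjoin k {u}) K := inferInstance
  have key := CastNum.main halg htr y hx (fun Ω _ _ σ τ hστ => by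
    have h3 : IntermediateField.adjoin k (Set.range y) ≤ AlgHom.fieldRange (AlgHom.id k K) := by
      rw [hgen]; intro x _; exact ⟨x, rfl⟩
    ext x
    have hx' : x ∈ IntermediateField.adjoin k (Set.range y) := by rw [hgen]; trivial
    induction hx' using IntermediateField.adjoin_induction with
    | mem x hx =>
      obtain ⟨i, rfl⟩ := hx
      exact hστ i
    | algebraMap c => rw [AlgHom.commutes, AlgHom.commutes]
    | add x y _ _ hx hy => rw [map_add, map_add, hx, hy]
    | inv x _ hx => rw [map_inv₀, map_inv₀, hx]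
    | mul x y _ _ hx hy => rw [map_mul, map_mul, hx, hy]) a e he hκ hr hd hd'
  set C := crv ⟨t, ht⟩ with hC'
  have hC : C.Fin := crv_fin ⟨t, ht⟩
  have hne : Nonempty (Place k K) := nonempty_place ⟨t, ht⟩
  have hl0 : C.l 0 = 1 := l_zero_eq_one_of_isAlgClosed ⟨t, ht⟩
  let n : ℕ := 2 * C.i 0
  have hdn : C.deg ((n + 2) • D) = (n + 2) * d := by
    rw [map_nsmul, hdeg]
    simp
  have hl := hC.l_eq hl0 (D := (n + 2) • D) (by
    rw [hdn]
    have : (1 : ℤ) ≤ d := by omega
    have h3 : ((n : ℤ) + 2) * 1 ≤ (n + 2) * d := mul_le_mul_of_nonneg_left this (by positivity)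
    have h4 : (n : ℤ) = 2 * C.i 0 := by simp [n]
    omega)
  have hfr : Module.finrank k (V k (fun o : Option κ => o.elim 1 y) (n + 2)) ≤ C.l ((n + 2) • D) := by
    obtain ⟨h5, h6⟩ := l_eq_finrank hC ((n + 2) • D)
    rw [h6]
    exact Submodule.finrank_mono (V_le _ (fun o => by
      cases o with
      | none => exact one_mem_L hD0
      | some i => exact hy i) _)
  have h7 := key n
  have h8 : ((3 * r + n * d : ℕ) : ℤ) ≤ C.l ((n + 2) • D) := by exact_mod_cast h7.trans hfr
  rw [hl, hdn] at h8
  push_cast at h8
  linarith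

end K466.CastFF
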