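import Groth.Agent.Curves.K466.CurveFr
import Groth.Agent.Curves.K466.CastFF
import Groth.Agent.Zeta.K466.PicEq
import Groth.Agent.MiscA.WCSep
import Groth.Agent.MiscA.CurveH1Place
import Groth.Agent.Ega2.SmoothBdry
import Groth.Agent.Ega3B.ProjFrame

/-!
# Castelnuovo's bound for curves over an algebraically closed field of characteristic zero
-/

set_option autoImplicit false
set_option linter.unusedSectionVars false
universe u
open CategoryTheory CategoryTheory.Limits AlgebraicGeometry Opposite TopologicalSpace WithZero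
open Groth.Agent.Fdesc.LocGen Groth.Agent.Ega3B.Frame
open Groth.Agent.Lefpen.H725.CocDef

namespace K466.CastGeo

open Groth.Agent Groth.Agent.MiscA Groth.Agent.MiscA.CurvePlaces K466.FrameRat K466.ProjFr K466.CurveFr
  Groth.Agent.MiscA.WCPlace Groth.Agent.MiscA.WCPlaceCrv Groth.Agent.MiscA.WCBridge
  K466.PicDiv K466.PicVal

/-- The stalk map at the generic point of a map which is birational onto a closed subscheme. -/
theorem stalkMap_surjective {X Y Z : Scheme.{u}} [IsIntegral X] (φ : X ⟶ Y) (j : Y ⟶ Z)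
    [IsClosedImmersion j] (hbir : ∃ U : Y.Opens, (U : Set Y).Nonempty ∧ IsIso (φ ∣_ U)) :
    Function.Surjective ((φ ≫ j).stalkMap (genericPoint X)).hom := by
  obtain ⟨U, ⟨y, hy⟩, hU⟩ := hbir
  have hne : ((φ ⁻¹ᵁ U : X.Opens) : Set X).Nonempty := by
    have h1 : Nonempty (φ ⁻¹ᵁ U) := ⟨(inv (φ ∣_ U)).base ⟨y, hy⟩⟩
    obtain ⟨x⟩ := h1
    exact ⟨x.1, x.2⟩
  have hη : genericPoint X ∈ φ ⁻¹ᵁ U :=
    (genericPoint_spec X).mem_open_set_iff (φ ⁻¹ᵁ U).2 |>.2 (by simpa using hne)
  have hiso : IsIso (φ.stalkMap (genericPoint X)) := by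
    have h1 := morphismRestrictStalkMap φ U ⟨genericPoint X, hη⟩
    have h2 : (MorphismProperty.isomorphisms CommRingCat) ((φ ∣_ U).stalkMap ⟨genericPoint X, hη⟩) := by
      rw [MorphismProperty.isomorphisms.iff]
      infer_instance
    exact (MorphismProperty.isomorphisms.iff _).1
      (((MorphismProperty.isomorphisms CommRingCat).arrow_mk_iso_iff h1).1 h2)
  rw [Scheme.Hom.stalkMap_comp]
  exact ((ConcreteCategory.bijective_of_isIso (φ.stalkMap (genericPoint X))).2).comp
    (j.stalkMap_surjective (φ (genericPoint X)))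

section

variable {k : Type u} [Field k] [IsAlgClosed k] [CharZero k] (X : Scheme.{u})
  [X.Over (Spec (CommRingCat.of k))] [IsIntegral X]
  [Algebra k X.functionField]
  (hk : genericPt X ≫ (X ↘ Spec (CommRingCat.of k)) =
    Spec.map (CommRingCat.ofHom (algebraMap k X.functionField)))
  [IsProper (X ↘ Spec (CommRingCat.of k))] [Smooth (X ↘ Spec (CommRingCat.of k))]
  (hdim : topologicalKrullDim X = 1) (h : ∃ t : X.functionField, IsSep k X.functionField t)

include h in
theorem val_rt_le {L : X.Modules} {ι : Type*} (F : SecFrame L ι) (hW : ∀ j, genericPoint X ∈ F.W j)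
    (j l : ι) (x : {x : X // IsClosed ({x} : Set X)}) (hx : x.1 ∈ F.W l) :
    (placeOf (X ↘ Spec (CommRingCat.of k)) hk hdim x).val (rt F hW j l) ≤ 1 := by
  obtain ⟨t, ht⟩ := h
  have h1 : rt F hW j l = algebraMap (X.presheaf.stalk x.1) X.functionField
      (X.presheaf.germ (F.W l) x.1 hx (F.g j l)) :=
    (TopCat.Presheaf.germ_stalkSpecializes_apply X.presheaf hx (genericPoint_specializes x.1) _).symm
  rw [h1]
  exact val_algebraMap_le _ hk hdim ht x _

theorem exp_aux {v : ℤᵐ⁰} {m n : ℤ} (h : exp (-m) * v / exp n = 1) : v = exp (n + m) := by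
  have h2 := (div_eq_one_iff_eq exp_pos.ne').1 h
  rw [exp_add, ← h2, mul_assoc, mul_comm v, ← mul_assoc, ← exp_add, neg_add_cancel, exp_zero, one_mul]

include hk hdim h in
theorem exists_div {L : X.Modules} (hL : PicF.IsInvertible L) {a : X → X.functionField}
    (ha : HasCoc L a) : ∃ D : Place k X.functionField →₀ ℤ,
    ∀ x : {x : X // IsClosed ({x} : Set X)},
      (placeOf (X ↘ Spec (CommRingCat.of k)) hk hdim x).val (a x.1) =
        exp (D (placeOf (X ↘ Spec (CommRingCat.of k)) hk hdim x)) := by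
  obtain ⟨D', a', hcoc', hD'⟩ := exists_isDiv (X ↘ Spec (CommRingCat.of k)) hk hdim h hL
  obtain ⟨b, hb0, hb⟩ := exists_of_hasCoc ha hcoc'
  refine ⟨D' + (crv h).div b, fun x => ?_⟩
  obtain ⟨t, ht⟩ := id h
  have h1 := (unitAt_iff_val _ hk hdim ht x _).1 (hb x.1)
  rw [map_div₀, map_mul, hD' x, v_eq h _ hb0] at h1
  exact exp_aux h1

section frame

variable {L : X.Modules} {r : ℕ} (F : SecFrame L (Fin (r + 1)))
  (hW : ∀ j, genericPoint X ∈ F.W j) {i : X → Fin (r + 1)} (hi : ∀ x, x ∈ F.W (i x))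
  {D : Place k X.functionField →₀ ℤ}
  (hval : ∀ x : {x : X // IsClosed ({x} : Set X)},
    (placeOf (X ↘ Spec (CommRingCat.of k)) hk hdim x).val (rt F hW (i x.1) 0) =
      exp (D (placeOf (X ↘ Spec (CommRingCat.of k)) hk hdim x)))

include h hi hval in
theorem nonneg : 0 ≤ D := by
  rw [Finsupp.le_def]
  intro P
  obtain ⟨x, hx⟩ := (placeEquiv (X ↘ Spec (CommRingCat.of k)) hk hdim).surjective P
  have hx' : placeOf (X ↘ Spec (CommRingCat.of k)) hk hdim x = P := hx
  have h1 := val_rt_le X hk hdim h F hW 0 (i x.1) x (hi x.1)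
  have h2 := congrArg (placeOf (X ↘ Spec (CommRingCat.of k)) hk hdim x).val
    ((rt_mul F hW (i x.1) 0 (i x.1)).trans (rt_self _ _ _))
  rw [map_mul, map_one, hval x] at h2
  have h3 : 1 ≤ exp (D (placeOf (X ↘ Spec (CommRingCat.of k)) hk hdim x)) := by
    rw [← h2]
    exact mul_le_of_le_one_right' h1
  rw [← exp_zero, exp_le_exp, hx'] at h3
  exact h3

include hi hval in
theorem mem_L (l : Fin (r + 1)) : rt F hW l 0 ∈ (crv h).L D := by
  rw [Models.FFRR.Crv.mem_L]
  intro P
  obtain ⟨x, hx⟩ := (placeEquiv (X ↘ Spec (CommRingCat.of k)) hk hdim).surjective P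
  have hx' : placeOf (X ↘ Spec (CommRingCat.of k)) hk hdim x = P := hx
  have h1 := hval x
  rw [hx'] at h1
  have h2 := val_rt_le X hk hdim h F hW l (i x.1) x (hi x.1)
  rw [hx'] at h2
  rw [← h1, ← rt_mul F hW l (i x.1) 0, map_mul, crv_v]
  exact mul_le_of_le_one_left' h2

include hi hval in
theorem exists_eq (P : Place k X.functionField) (hP : P ∈ D.support) :
    ∃ l : Fin r, (crv h).v P (rt F hW l.succ 0) = exp (D P) := by
  obtain ⟨x, hx⟩ := (placeEquiv (X ↘ Spec (CommRingCat.of k)) hk hdim).surjective P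
  have hx' : placeOf (X ↘ Spec (CommRingCat.of k)) hk hdim x = P := hx
  have h1 := hval x
  rw [hx'] at h1
  rcases Fin.eq_zero_or_eq_succ (i x.1) with h0 | ⟨l, hl⟩
  · exfalso
    rw [h0, rt_self, map_one, ← exp_zero, exp_inj] at h1
    exact (Finsupp.mem_support_iff.1 hP) h1.symm
  · refine ⟨l, ?_⟩
    rw [← h1, hl]
    rfl

end frame

include hk hdim in
/-- **Castelnuovo's bound.** -/
theorem genus_le {r c : ℕ} (hc : c + 2 ≤ r) (ψ : X ⟶ CohB1.ProjSpace r k)
    (hψ : ψ ≫ CohB1.ProjSpace.toSpec r k = X ↘ Spec (CommRingCat.of k))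
    (hs : Function.Surjective (ψ.stalkMap (genericPoint X)).hom) (hnd : NonDeg ψ)
    (hdeg : Curv2.deg k X ((Scheme.Modules.pullback ψ).obj (Twist.twistProjSpace r k 1)) 1 = 2 * r + c) :
    ((crv h).i 0 : ℤ) ≤ r + 2 * c + 1 := by
  have hW := mem_W_of_nondeg ψ hnd
  have hcov : ∀ x : X, ∃ i, x ∈ (F ψ).W i := fun x =>
    Opens.mem_iSup.1 (show x ∈ ⨆ i, (F ψ).W i by rw [(F ψ).cov]; trivial)
  choose i hi using hcov
  have hcoc := hasCoc (F ψ) hW 0 i hi
  have hL : PicF.IsInvertible ((Scheme.Modules.pullback ψ).obj (Twist.twistProjSpace r k 1)) :=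
    isInvertible_pullback _ (Ega3B.ProjFrame.isInvertible_twistProjSpace r k 1)
  obtain ⟨D, hval⟩ := exists_div X hk hdim h hL hcoc
  have hdiv : IsDiv (X ↘ Spec (CommRingCat.of k)) hk hdim
      ((Scheme.Modules.pullback ψ).obj (Twist.twistProjSpace r k 1)) D :=
    ⟨_, hcoc, hval⟩
  have hdegD : (crv h).deg D = ((2 * r + c : ℕ) : ℤ) := by
    rw [← PicEq.deg_eq k X hk hdim h hL hdiv, hdeg]
    push_cast
    rfl
  have h1 := CastFF.genus_le (k := k) h (κ := Fin r) (r := r) (d := 2 * r + c) (Fintype.card_fin r)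
    (by omega) (by omega) (by omega) D (nonneg X hk hdim h (F ψ) hW hi hval) hdegD (y ψ hW)
    (fun l => mem_L X hk hdim h (F ψ) hW hi hval l.succ)
    (fun P hP => exists_eq X hk hdim h (F ψ) hW hi hval P hP)
    (linearIndependent ψ _ hψ hk hW hnd) (adjoin_eq_top ψ _ hψ hk hW hs)
  refine h1.trans (le_of_eq ?_)
  push_cast
  ring

end

/-- **Castelnuovo's bound**, for regular proper curves. -/
theorem main (k : Type u) [Field k] [IsAlgClosed k] [CharZero k] (X : Scheme.{u})
    [X.Over (Spec (CommRingCat.of k))] [IsIntegral X] [IsProper (X ↘ (Spec (CommRingCat.of k)))]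
    (hdim : topologicalKrullDim X = 1) (hreg : ∀ x : X, IsRegularLocalRing (X.presheaf.stalk x))
    (r c : ℕ) (hc : c + 2 ≤ r)
    (Y : Scheme.{u}) (j : Y ⟶ CohB1.ProjSpace r k) [IsClosedImmersion j] (φ : X ⟶ Y)
    (hφ : φ ≫ j ≫ CohB1.ProjSpace.toSpec r k = X ↘ Spec (CommRingCat.of k))
    (hbir : ∃ U : Y.Opens, (U : Set Y).Nonempty ∧ IsIso (φ ∣_ U))
    (hnd : ∀ s : LinSer.Sect (CohB1.ProjSpace r k) (Twist.twistProjSpace r k 1), s ≠ 0 →
      OmegaSh.pullSect (φ ≫ j) (Twist.twistProjSpace r k 1) ⊤ s ≠ 0)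
    (hdeg : Curv2.deg k X ((Scheme.Modules.pullback (φ ≫ j)).obj (Twist.twistProjSpace r k 1)) 1 =
      2 * r + c) :
    (Curv2.genus k X : ℤ) ≤ (r : ℤ) + 2 * c + 1 := by
  set f := X ↘ Spec (CommRingCat.of k) with hf
  have hsm : Smooth f := Ega2.SmoothBdry.smooth_of_regular f hreg
  let := (Spec.preimage (genericPt X ≫ f)).hom.toAlgebra
  have hk : genericPt X ≫ f = Spec.map (CommRingCat.ofHom (algebraMap k X.functionField)) :=
    (Spec.map_preimage _).symm
  have hsep : ∃ t : X.functionField, IsSep k X.functionField t := WCSep.exists_isSep f hdim hk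
  have hgenus : (crv hsep).i 0 = Curv2.genus k X := (CurveH1.i_zero_eq_finrank hk hdim hsep).2
  rw [← hgenus]
  exact genus_le X hk hdim hsep hc (φ ≫ j) (by rw [Category.assoc, hφ])
    (stalkMap_surjective φ j hbir) hnd hdeg

end K466.CastGeo
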