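import Groth.Agent.Curves.K466.GenPos
import Mathlib.Algebra.Algebra.Operations
import Mathlib.RingTheory.Flat.Basic
import Mathlib.Order.Interval.Finset.Fin

/-!
# Castelnuovo's inequality for powers of a linear system

`step`: `dim V^(n+1) ≥ dim V^n + N` for `N ≤ (n+1)(r-1)+1` points of the generic hyperplane section in
general position.
-/

set_option autoImplicit false
set_option linter.unusedSectionVars false
universe u
open TensorProduct
open scoped Pointwise

namespace K466.CastLin

section baseChange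

variable {k K Ω : Type u} [Field k] [Field K] [Field Ω] [Algebra k K] [Algebra k Ω]

theorem span_le_of_subset {S T : Set K} (h : S ⊆ Submodule.span k T) :
    Submodule.span Ω ((fun x => (1 : Ω) ⊗ₜ[k] x) '' S) ≤
      Submodule.span Ω ((fun x => (1 : Ω) ⊗ₜ[k] x) '' T) := by
  rw [Submodule.span_le]
  rintro _ ⟨s, hs, rfl⟩
  have h1 := h hs
  refine Submodule.span_induction (p := fun x _ => (1 : Ω) ⊗ₜ[k] x ∈
    Submodule.span Ω ((fun x => (1 : Ω) ⊗ₜ[k] x) '' T)) ?_ ?_ ?_ ?_ h1
  · intro x hx; exact Submodule.subset_span ⟨x, hx, rfl⟩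
  · rw [tmul_zero]; exact zero_mem _
  · intro x y _ _ hx hy; rw [tmul_add]; exact add_mem hx hy
  · intro a x _ hx
    have : (1 : Ω) ⊗ₜ[k] (a • x) = (algebraMap k Ω a) • ((1 : Ω) ⊗ₜ[k] x) := by
      rw [tmul_smul, smul_tmul', smul_tmul', Algebra.smul_def, mul_one, smul_eq_mul, mul_one]
    rw [this]
    exact Submodule.smul_mem _ _ hx

theorem finrank_span_eq {S : Set K} (hS : S.Finite) :
    Module.finrank Ω (Submodule.span Ω ((fun x => (1 : Ω) ⊗ₜ[k] x) '' S)) =
      Module.finrank k (Submodule.span k S) := by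
  have : FiniteDimensional k (Submodule.span k S) := FiniteDimensional.span_of_finite k hS
  let b := Module.finBasis k (Submodule.span k S)
  let v : Fin (Module.finrank k (Submodule.span k S)) → K := fun i => (b i : K)
  have hv : LinearIndependent k v := b.linearIndependent.map' (Submodule.span k S).subtype
    (Submodule.ker_subtype _)
  have hw := Module.Flat.linearIndependent_one_tmul (S := Ω) hv
  have h1 : Submodule.span Ω ((fun x => (1 : Ω) ⊗ₜ[k] x) '' S) =
      Submodule.span Ω (Set.range fun i => (1 : Ω) ⊗ₜ[k] v i) := by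
    have hr : (Set.range fun i => (1 : Ω) ⊗ₜ[k] v i) = (fun x => (1 : Ω) ⊗ₜ[k] x) '' (Set.range v) := by
      rw [← Set.range_comp]; rfl
    rw [hr]
    apply le_antisymm
    · apply span_le_of_subset
      intro s hs
      have h2 := b.mem_span (⟨s, Submodule.subset_span hs⟩ : Submodule.span k S)
      have h3 := Submodule.mem_map_of_mem (f := (Submodule.span k S).subtype) h2
      rw [Submodule.map_span, ← Set.range_comp] at h3
      exact h3
    · apply span_le_of_subset
      rintro _ ⟨i, rfl⟩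
      exact (b i).2
  rw [h1, finrank_span_eq_card hw, Fintype.card_fin]

end baseChange

/-- Separating linear forms. -/
theorem exists_form {Ω : Type u} [Field Ω] {ι : Type} [Fintype ι] {J : Type} [DecidableEq J] (v : J → ι → Ω)
    {p : J} {G : Finset J} (hp : p ∈ G) (hLI : LinearIndependent Ω (fun j : G => v j)) :
    ∃ c : ι → Ω, ∀ j ∈ G, ∑ i, c i * v j i = if j = p then 1 else 0 := by
  classical
  let b := Module.Basis.span hLI
  obtain ⟨f, hf⟩ := (b.coord ⟨p, hp⟩).exists_extend
  refine ⟨fun i => f (Pi.single i 1), fun j hj => ?_⟩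
  have h1 : ∑ i, f (Pi.single i 1) * v j i = f (v j) := by
    conv_rhs => rw [← Finset.univ_sum_single (v j), map_sum]
    refine Finset.sum_congr rfl fun i _ => ?_
    have : Pi.single i (v j i) = v j i • (Pi.single i 1 : ι → Ω) := by
      rw [← Pi.single_smul, smul_eq_mul, mul_one]
    rw [this, map_smul, smul_eq_mul, mul_comm]
  rw [h1]
  have h2 : (b ⟨j, hj⟩ : ι → Ω) = v j := Module.Basis.coe_span_apply hLI ⟨j, hj⟩
  have h3 := LinearMap.congr_fun hf (b ⟨j, hj⟩)
  rw [LinearMap.comp_apply, Submodule.subtype_apply, h2] at h3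
  rw [h3, Module.Basis.coord_apply, Module.Basis.repr_self, Finsupp.single_apply]
  simp

/-- Products of linear forms separate points in general position. -/
theorem exists_forms {Ω : Type u} [Field Ω] {ι : Type} [Fintype ι] {N n r : ℕ} (hr : 2 ≤ r)
    (hN : N ≤ (n + 1) * (r - 1) + 1) (v : Fin N → ι → Ω)
    (hGP : ∀ G : Finset (Fin N), G.card ≤ r → LinearIndependent Ω (fun j : G => v j)) (p : Fin N) :
    ∃ c : Fin (n + 1) → ι → Ω, ∀ j, ∏ s, (∑ i, c s i * v j i) = if j = p then 1 else 0 := by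
  classical
  have hr1 : 0 < r - 1 := by omega
  have hcard : Fintype.card {j : Fin N // j ≠ p} = N - 1 := by
    rw [Fintype.card_subtype_compl, Fintype.card_fin, Fintype.card_unique]
  let e := Fintype.equivFinOfCardEq hcard
  let G : Fin (n + 1) → Finset (Fin N) := fun s =>
    insert p ((Finset.univ.filter fun j : {j : Fin N // j ≠ p} => (e j : ℕ) / (r - 1) = s).map
      (Function.Embedding.subtype _))
  have hG : ∀ s, (G s).card ≤ r := by
    intro s
    refine (Finset.card_insert_le _ _).trans ?_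
    rw [Finset.card_map]
    have h1 : (Finset.univ.filter fun j : {j : Fin N // j ≠ p} => (e j : ℕ) / (r - 1) = s).card ≤
        (Finset.Ico ((s : ℕ) * (r - 1)) (((s : ℕ) + 1) * (r - 1))).card := by
      refine Finset.card_le_card_of_injOn (fun j => (e j : ℕ)) ?_ ?_
      · intro j hj
        simp only [Finset.coe_filter, Finset.mem_univ, true_and, Set.mem_ofPred_eq] at hj
        rw [Finset.coe_Ico, Set.mem_Ico, ← hj]
        refine ⟨Nat.div_mul_le_self _ _, ?_⟩
        rw [mul_comm]
        exact Nat.lt_mul_div_succ _ hr1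
      · intro a _ b _ hab
        exact e.injective (Fin.ext hab)
    rw [Nat.card_Ico] at h1
    have h2 : ((s : ℕ) + 1) * (r - 1) - (s : ℕ) * (r - 1) = r - 1 := by
      rw [← Nat.sub_mul, Nat.add_sub_cancel_left, one_mul]
    omega
  choose c hc using fun s => exists_form v (p := p) (G := G s) (Finset.mem_insert_self _ _)
    (hGP _ (hG s))
  refine ⟨c, fun j => ?_⟩
  split_ifs with h
  · subst h
    refine Finset.prod_eq_one fun s _ => ?_
    rw [hc s j (Finset.mem_insert_self _ _), if_pos rfl]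
  · have h1 : (e ⟨j, h⟩ : ℕ) / (r - 1) < n + 1 := by
      rw [Nat.div_lt_iff_lt_mul hr1]
      have := (e ⟨j, h⟩).2
      omega
    refine Finset.prod_eq_zero (Finset.mem_univ ⟨_, h1⟩) ?_
    rw [hc _ j, if_neg h]
    refine Finset.mem_insert_of_mem ?_
    rw [Finset.mem_map]
    exact ⟨⟨j, h⟩, by simp, rfl⟩

theorem prod_mem_pow {R A : Type*} [CommSemiring R] [CommSemiring A] [Algebra R A]
    (M : Submodule R A) {n : ℕ} (f : Fin n → A) (hf : ∀ i, f i ∈ M) : ∏ i, f i ∈ M ^ n := by
  induction n with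
  | zero => rw [Finset.univ_eq_empty, Finset.prod_empty, pow_zero]; exact Submodule.one_le.mp le_rfl
  | succ n ih =>
    rw [Fin.prod_univ_castSucc, pow_succ]
    exact Submodule.mul_mem_mul (ih _ fun i => hf _) (hf _)

section step

variable {k K Ω : Type u} [Field k] [IsAlgClosed k] [Field K] [Field Ω] [Algebra k K] [Algebra k Ω]
  {ι : Type} [Fintype ι]

/-- The linear system and its powers. -/
def V (k : Type u) {K : Type u} [Field k] [Field K] [Algebra k K] {ι : Type} (x : ι → K) (n : ℕ) :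
    Submodule k K := Submodule.span k (Set.range x) ^ n

theorem V_eq (x : ι → K) (n : ℕ) : V k x n = Submodule.span k ((Set.range x) ^ n) :=
  Submodule.span_pow _ _

theorem finite_pow (x : ι → K) (n : ℕ) : ((Set.range x) ^ n).Finite := by
  induction n with
  | zero => rw [pow_zero]; exact Set.finite_one
  | succ n ih => rw [pow_succ]; exact ih.mul (Set.finite_range x)

instance (x : ι → K) (n : ℕ) : FiniteDimensional k (V k x n) := by
  rw [V_eq]
  exact FiniteDimensional.span_of_finite k (finite_pow x n)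

/-- The linear system over `Ω`. -/
def Q (Ω : Type u) [Field Ω] [Algebra k Ω] (x : ι → K) (n : ℕ) : Submodule Ω (Ω ⊗[k] K) :=
  Submodule.span Ω (Set.range fun i => (1 : Ω) ⊗ₜ[k] x i) ^ n

theorem Q_eq (x : ι → K) (n : ℕ) :
    Q (k := k) Ω x n = Submodule.span Ω ((fun x => (1 : Ω) ⊗ₜ[k] x) '' ((Set.range x) ^ n)) := by
  rw [Q, Submodule.span_pow]
  congr 1
  have h1 : (fun x : K => (1 : Ω) ⊗ₜ[k] x) =
      (Algebra.TensorProduct.includeRight : K →ₐ[k] Ω ⊗[k] K) := rfl
  rw [h1, Set.image_pow, ← Set.range_comp]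
  rfl

theorem finrank_Q (x : ι → K) (n : ℕ) :
    Module.finrank Ω (Q (k := k) Ω x n) = Module.finrank k (V k x n) := by
  rw [Q_eq, V_eq, finrank_span_eq (finite_pow x n)]

instance (x : ι → K) (n : ℕ) : FiniteDimensional Ω (Q (k := k) Ω x n) := by
  rw [Q_eq]
  exact FiniteDimensional.span_of_finite Ω ((finite_pow x n).image _)

theorem step (x : ι → K) (hx : LinearIndependent k x) (t : ι → Ω) (ht : t ≠ 0) {N n r : ℕ}
    (hr : 2 ≤ r) (hN : N ≤ (n + 1) * (r - 1) + 1) (σ : Fin N → K →ₐ[k] Ω)
    (htσ : ∀ j, ∑ i, t i * σ j (x i) = 0)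
    (hGP : ∀ G : Finset (Fin N), G.card ≤ r →
      LinearIndependent Ω (fun j : G => fun i => σ j (x i))) :
    Module.finrank k (V k x n) + N ≤ Module.finrank k (V k x (n + 1)) := by
  classical
  have hdom : IsDomain (Ω ⊗[k] K) := Groth.Agent.Fdesc.TensorDomain.isDomain_tensorProduct
  let ev : Fin N → Ω ⊗[k] K →ₐ[Ω] Ω := fun j =>
    Algebra.TensorProduct.lift (Algebra.ofId Ω Ω) (σ j) (fun _ _ => Commute.all _ _)
  have hev : ∀ j a y, ev j (a ⊗ₜ[k] y) = a * σ j y := by
    intro j a y
    simp [ev]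
  let lf : (ι → Ω) → Ω ⊗[k] K := fun c => ∑ i, c i ⊗ₜ[k] x i
  have hlf : ∀ c, lf c ∈ Submodule.span Ω (Set.range fun i => (1 : Ω) ⊗ₜ[k] x i) := by
    intro c
    refine Submodule.sum_mem _ fun i _ => ?_
    have : c i ⊗ₜ[k] x i = c i • ((1 : Ω) ⊗ₜ[k] x i) := by
      rw [smul_tmul', smul_eq_mul, mul_one]
    rw [this]
    exact Submodule.smul_mem _ _ (Submodule.subset_span ⟨i, rfl⟩)
  have hevlf : ∀ j c, ev j (lf c) = ∑ i, c i * σ j (x i) := by
    intro j c
    rw [map_sum]
    exact Finset.sum_congr rfl fun i _ => hev _ _ _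
  have hh0 : lf t ≠ 0 := by
    intro h0
    apply ht
    have h3 := Module.Flat.linearIndependent_one_tmul (S := Ω) hx
    rw [Fintype.linearIndependent_iff] at h3
    funext i
    refine h3 t ?_ i
    rw [← h0]
    refine Finset.sum_congr rfl fun i _ => ?_
    rw [smul_tmul', smul_eq_mul, mul_one]
  -- multiplication by the hyperplane
  have hmul : ∀ q ∈ Q (k := k) Ω x n, q * lf t ∈ Q (k := k) Ω x (n + 1) := by
    intro q hq
    rw [Q, pow_succ]
    exact Submodule.mul_mem_mul hq (hlf t)
  let ψ : Q (k := k) Ω x n →ₗ[Ω] Q (k := k) Ω x (n + 1) :=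
    (LinearMap.mulRight Ω (lf t)).restrict hmul
  let E : Q (k := k) Ω x (n + 1) →ₗ[Ω] (Fin N → Ω) :=
    (LinearMap.pi fun j => (ev j).toLinearMap) ∘ₗ (Q (k := k) Ω x (n + 1)).subtype
  have hE : ∀ q j, E q j = ev j q := fun q j => rfl
  have hψ : Function.Injective ψ := by
    intro a b hab
    have h1 : (a : Ω ⊗[k] K) * lf t = b * lf t := congrArg Subtype.val hab
    exact Subtype.ext (mul_right_cancel₀ hh0 h1)
  have hker : LinearMap.range ψ ≤ LinearMap.ker E := by
    rintro _ ⟨q, rfl⟩
    rw [LinearMap.mem_ker]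
    funext j
    rw [hE]
    change ev j ((q : Ω ⊗[k] K) * lf t) = 0
    rw [map_mul, hevlf, htσ, mul_zero]
  have hsurj : LinearMap.range E = ⊤ := by
    rw [eq_top_iff, ← (Pi.basisFun Ω (Fin N)).span_eq, Submodule.span_le]
    rintro _ ⟨p, rfl⟩
    obtain ⟨c, hc⟩ := exists_forms hr hN (fun j i => σ j (x i)) hGP p
    refine ⟨⟨∏ s, lf (c s), prod_mem_pow _ _ fun s => hlf _⟩, ?_⟩
    funext j
    rw [hE, map_prod]
    simp only [hevlf]
    rw [hc j, Pi.basisFun_apply, Pi.single_apply]
  have h1 := E.finrank_range_add_finrank_ker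
  rw [hsurj, finrank_top, Module.finrank_fintype_fun_eq_card, Fintype.card_fin] at h1
  have h2 := Submodule.finrank_mono hker
  rw [LinearMap.finrank_range_of_inj hψ] at h2
  rw [← finrank_Q (Ω := Ω) x n, ← finrank_Q (Ω := Ω) x (n + 1)]
  omega

end step

end K466.CastLin
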