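import Groth.Agent.Curves.K466.Points
import Groth.Agent.Curves.K466.CastLin

/-!
# Castelnuovo's count

`main`: for a family `y` of `r ≥ 2` elements generating the function field `K`, with `1, y_i`
linearly independent, and `d` elements linearly independent over `k(∑ a_i y_i)`,
`2r - 1 ≤ d ≤ 3r - 2`, the `(n+2)`-nd power of the linear system has dimension at least `3r + n d`.
-/

set_option autoImplicit false
universe u
open Polynomial IntermediateField

namespace K466.CastNum

open K466.Spread K466.CastLin

variable {k K : Type u} [Field k] [IsAlgClosed k] [CharZero k] [Field K] [Algebra k K]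
  {κ : Type} [Fintype κ]

theorem main {z : K} (hz : Algebra.IsAlgebraic (IntermediateField.adjoin k {z}) K)
    (hzt : Transcendental k z) (y : κ → K)
    (hx : LinearIndependent k (fun o : Option κ => o.elim 1 y))
    (hgen : ∀ (Ω : Type u) (_ : Field Ω) (_ : Algebra k Ω) (σ τ : K →ₐ[k] Ω),
      (∀ i, σ (y i) = τ (y i)) → σ = τ)
    (a : κ → k) {d : ℕ} (e : Fin d → K) (he : LIp k (∑ i, algebraMap k K (a i) * y i) e)
    {r : ℕ} (hκ : Fintype.card κ = r) (hr : 2 ≤ r) (hd : 2 * r ≤ d + 1) (hd' : d + 2 ≤ 3 * r)
    (n : ℕ) :
    3 * r + n * d ≤ Module.finrank k (V k (fun o : Option κ => o.elim 1 y) (n + 2)) := by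
  classical
  obtain ⟨Ω, _, _, _, t, σ, ht, hσ, htσ⟩ := Points.exists_points y a e hz he (by omega)
  have hchK : CharZero K := charZero_of_injective_algebraMap (algebraMap k K).injective
  have hchΩ : CharZero Ω := charZero_of_injective_algebraMap (algebraMap k Ω).injective
  set x : Option κ → K := fun o => o.elim 1 y with hxdef
  have hcard : Fintype.card (Option κ) = r + 1 := by rw [Fintype.card_option, hκ]
  have ht0 : t ≠ 0 := fun h => ht.ne_zero none (congrFun h none)
  have hGP : ∀ G : Finset (Fin d), G.card ≤ r →
      LinearIndependent Ω (fun j : G => fun i => σ j (x i)) := by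
    intro G hG
    let ε := G.equivFin.symm
    have h1 := GenPos.main hz hzt x hx (i₀ := none) rfl (fun σ τ h => hgen Ω _ _ σ τ fun i => h (some i))
      t ht G.card (fun j => σ (ε j)) (hσ.comp (Subtype.val_injective.comp ε.injective))
      (fun j => htσ _) (by omega)
    exact (linearIndependent_equiv ε (f := fun j : G => fun i => σ j (x i))).1 h1
  have hV1 : Module.finrank k (V k x 1) = r + 1 := by
    rw [V, pow_one, finrank_span_eq_card hx, hcard]
  have h2 : 3 * r ≤ Module.finrank k (V k x 2) := by
    have hle : 2 * r - 1 ≤ d := by omega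
    have h3 := step x hx t ht0 (N := 2 * r - 1) (n := 1) (r := r) hr (by omega)
      (fun j => σ (Fin.castLE hle j)) (fun j => htσ _) (by
        intro G hG
        have h4 := hGP (G.map (Fin.castLEEmb hle)) (by rw [Finset.card_map]; exact hG)
        let f : G → (G.map (Fin.castLEEmb hle) : Finset (Fin d)) := fun j =>
          ⟨Fin.castLEEmb hle j, Finset.mem_map_of_mem _ j.2⟩
        have hf : Function.Injective f := by
          intro i j hij
          have := congrArg Subtype.val hij
          exact Subtype.ext ((Fin.castLEEmb hle).injective this)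
        exact h4.comp f hf)
    rw [hV1] at h3
    have h5 : 1 + 1 = 2 := rfl
    rw [h5] at h3
    omega
  induction n with
  | zero => simpa using h2
  | succ n ih =>
    have hn : d ≤ (n + 2 + 1) * (r - 1) + 1 := by
      have : 3 * (r - 1) ≤ (n + 2 + 1) * (r - 1) := Nat.mul_le_mul_right _ (by omega)
      omega
    have h3 := step x hx t ht0 (N := d) (n := n + 2) (r := r) hr hn σ htσ hGP
    have h4 : n + 1 + 2 = n + 2 + 1 := by ring
    rw [h4]
    have h5 : (n + 1) * d = n * d + d := by ring
    omega

end K466.CastNum
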