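import Mathlib.FieldTheory.AlgebraicClosure
import Mathlib.RingTheory.AlgebraicIndependent.TranscendenceBasis
import Mathlib.RingTheory.AlgebraicIndependent.Transcendental
import Mathlib.RingTheory.Flat.Basic
import Groth.Agent.Fdesc.TensorDomain

/-!
# Relatively algebraically closed subfields of an extension field

* `cl k S`: algebraic closure in `Ω` of `k(S)`;
* `card_le`: an algebraically independent family inside `cl k S` has at most `#S` elements;
* `ld`: linear disjointness of a relatively algebraically closed subfield and a function field of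
  one variable over an algebraically closed field embedded generically.
-/

set_option autoImplicit false
universe u
open TensorProduct IntermediateField Polynomial

namespace K466.Clos

variable (k : Type u) {Ω : Type u} [Field k] [Field Ω] [Algebra k Ω]

/-- The algebraic closure in `Ω` of the subfield generated by a set. -/
noncomputable def cl (S : Set Ω) : IntermediateField k Ω :=
  (algebraicClosure (IntermediateField.adjoin k S) Ω).restrictScalars k

variable {k}

theorem mem_cl {S : Set Ω} {y : Ω} : y ∈ cl k S ↔ IsAlgebraic (IntermediateField.adjoin k S) y :=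
  mem_algebraicClosure_iff

theorem subset_cl (S : Set Ω) : S ⊆ cl k S := fun y hy =>
  mem_cl.2 (isAlgebraic_algebraMap (⟨y, IntermediateField.subset_adjoin k S hy⟩ :
    IntermediateField.adjoin k S))

/-- Relatively algebraically closed subfields. -/
def Closed (M : IntermediateField k Ω) : Prop := ∀ y : Ω, IsAlgebraic M y → y ∈ M

theorem closed_cl (S : Set Ω) : Closed (cl k S) := by
  intro y hy
  rw [mem_cl]
  have h1 : Algebra.IsAlgebraic (IntermediateField.adjoin k S)
      (algebraicClosure (IntermediateField.adjoin k S) Ω) := inferInstance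
  have h2 : IsAlgebraic (algebraicClosure (IntermediateField.adjoin k S) Ω) y := hy
  exact h2.restrictScalars _

theorem cl_le {S : Set Ω} {M : IntermediateField k Ω} (hM : Closed M) (h : S ⊆ M) :
    cl k S ≤ M := by
  intro y hy
  rw [mem_cl] at hy
  apply hM
  have h1 : IntermediateField.adjoin k S ≤ M := IntermediateField.adjoin_le_iff.2 h
  let _ : Algebra (IntermediateField.adjoin k S) M :=
    (IntermediateField.inclusion h1).toRingHom.toAlgebra
  have _ : IsScalarTower (IntermediateField.adjoin k S) M Ω := .of_algebraMap_eq fun x => rfl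
  exact hy.extendScalars (algebraMap (IntermediateField.adjoin k S) M).injective

theorem cl_mono {S T : Set Ω} (h : S ⊆ T) : cl k S ≤ cl k T :=
  cl_le (closed_cl T) (h.trans (subset_cl T))

open scoped IntermediateField.algebraAdjoinAdjoin in
theorem card_le {p : ℕ} {S : Set Ω} (hS : S.Finite) (t : Fin p → Ω) (ht : AlgebraicIndependent k t)
    (h : ∀ i, t i ∈ cl k S) : p ≤ S.ncard := by
  classical
  let A := Algebra.adjoin k S
  let F := IntermediateField.adjoin k S
  let N := algebraicClosure F Ω
  have h1 : Algebra.IsAlgebraic F N := inferInstance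
  have h2 : Algebra.IsAlgebraic A F := IsLocalization.isAlgebraic _ (nonZeroDivisors A)
  have h3 : Algebra.IsAlgebraic A N := Algebra.IsAlgebraic.trans A F N
  have hff : FaithfulSMul A N := by
    rw [faithfulSMul_iff_algebraMap_injective]
    intro a b hab
    have := congrArg (fun c : N => (c : Ω)) hab
    exact Subtype.ext this
  have hst : IsScalarTower k A N := .of_algebraMap_eq fun a => Subtype.ext rfl
  have h5 := trdeg_add_eq k A (A := N)
  have h6 : Algebra.trdeg A N = 0 := trdeg_eq_zero
  rw [h6, add_zero] at h5
  -- the generated algebra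
  have h7 : Algebra.trdeg k A ≤ Cardinal.mk S := by
    have h8 := trdeg_le_of_surjective (R := k) (A := MvPolynomial S k) (A' := A)
      (MvPolynomial.aeval fun s : S => (⟨s.1, Algebra.subset_adjoin s.2⟩ : A)) (by
        intro a
        have ha : (a : Ω) ∈ (MvPolynomial.aeval (R := k) (fun s : S => (s : Ω))).range := by
          rw [← Algebra.adjoin_range_eq_range_aeval]
          simp
        obtain ⟨f, hf⟩ := ha
        refine ⟨f, Subtype.ext ?_⟩
        rw [← hf]
        change A.val _ = _
        rw [← AlgHom.comp_apply]
        congr 1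
        ext s
        simp)
    rwa [MvPolynomial.trdeg_of_isDomain, Cardinal.lift_id] at h8
  -- the independent family
  have h8 : AlgebraicIndependent k (fun i : ULift.{u} (Fin p) => (⟨t i.down, h i.down⟩ : N)) := by
    have h9 : AlgebraicIndependent k (fun i : ULift.{u} (Fin p) => t i.down) :=
      ht.comp ULift.down ULift.down_injective
    have h10 : (fun i : ULift.{u} (Fin p) => t i.down) =
      (cl k S).val ∘ (fun i : ULift.{u} (Fin p) => (⟨t i.down, h i.down⟩ : cl k S)) := rfl
    rw [h10] at h9
    exact AlgebraicIndependent.of_comp _ h9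
  have h9 := h8.cardinalMk_le_trdeg
  rw [← h5] at h9
  have h10 := h9.trans h7
  rw [← Set.cast_ncard hS] at h10
  simpa using h10

variable {K : Type u} [Field K] [Algebra k K]

open scoped IntermediateField.algebraAdjoinAdjoin in
theorem exists_poly {z x : K} (hx : IsAlgebraic (IntermediateField.adjoin k {z}) x) :
    ∃ P : k[X][X], P ≠ 0 ∧ P.eval₂ (Polynomial.aeval z : k[X] →ₐ[k] K).toRingHom x = 0 := by
  have h2 : Algebra.IsAlgebraic (Algebra.adjoin k {z}) (IntermediateField.adjoin k {z}) :=
    IsLocalization.isAlgebraic _ (nonZeroDivisors (Algebra.adjoin k {z}))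
  obtain ⟨p, hp, hp0⟩ : IsAlgebraic (Algebra.adjoin k {z}) x := hx.restrictScalars _
  let ρ : k[X] →ₐ[k] Algebra.adjoin k {z} :=
    Polynomial.aeval (⟨z, Algebra.self_mem_adjoin_singleton k z⟩ : Algebra.adjoin k {z})
  have hρ : Function.Surjective ρ := by
    rintro ⟨a, ha⟩
    obtain ⟨f, hf⟩ := (Algebra.adjoin_singleton_eq_range_aeval k z ▸ ha :
      a ∈ (Polynomial.aeval z : k[X] →ₐ[k] K).range)
    refine ⟨f, Subtype.ext ?_⟩
    change (Algebra.adjoin k {z}).val _ = _
    rw [← Polynomial.aeval_algHom_apply]
    exact hf
  obtain ⟨P, hP⟩ := Polynomial.map_surjective ρ.toRingHom hρ p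
  refine ⟨P, ?_, ?_⟩
  · rintro rfl
    rw [Polynomial.map_zero] at hP
    exact hp hP.symm
  · rw [Polynomial.aeval_def, ← hP, Polynomial.eval₂_map] at hp0
    have hr : (Polynomial.aeval z : k[X] →ₐ[k] K).toRingHom =
        (algebraMap (Algebra.adjoin k {z}) K).comp ρ.toRingHom := by
      ext a
      · simp [ρ]
      · simp [ρ]
    rw [hr]
    exact hp0

/-- Abstract form of linear disjointness. -/
theorem injective_of {M S : Type u} [Field M] [Algebra k M] [CommRing S] [IsDomain S] [Algebra M S]
    [Algebra k S] [IsScalarTower k M S] (i : K →ₐ[k] S)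
    (hgen : Algebra.adjoin M (Set.range i) = ⊤) {z : K}
    (hz : Algebra.IsAlgebraic (IntermediateField.adjoin k {z}) K) {L : Type u} [Field L] [Algebra M L]
    (φ : S →ₐ[M] L) (htr : Transcendental M (φ (i z))) : Function.Injective φ := by
  let _ : Algebra M[X] S := (Polynomial.aeval (R := M) (i z)).toRingHom.toAlgebra
  have _ : IsScalarTower M M[X] S := .of_algebraMap_eq fun a => by
    change _ = Polynomial.aeval (i z) (C a)
    rw [Polynomial.aeval_C]
  have halg : ∀ p : M[X], algebraMap M[X] S p = Polynomial.aeval (i z) p := fun p => rfl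
  have hx : ∀ x : K, IsAlgebraic M[X] (i x) := by
    intro x
    obtain ⟨P, hP, hP0⟩ := exists_poly (hz.isAlgebraic x)
    refine ⟨P.map (Polynomial.mapRingHom (algebraMap k M)), ?_, ?_⟩
    · rwa [Ne, Polynomial.map_eq_zero_iff]
      exact Polynomial.map_injective _ (algebraMap k M).injective
    · rw [Polynomial.aeval_def, Polynomial.eval₂_map]
      have := congrArg i hP0
      rw [map_zero] at this
      change i.toRingHom _ = _ at this
      rw [Polynomial.hom_eval₂] at this
      have hr : (algebraMap M[X] S).comp (Polynomial.mapRingHom (algebraMap k M)) =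
          i.toRingHom.comp (Polynomial.aeval z : k[X] →ₐ[k] K).toRingHom := by
        ext a
        · simp [halg, ← IsScalarTower.algebraMap_apply]
        · simp [halg]
      rw [hr]
      exact this
  have hall : ∀ f : S, IsAlgebraic M[X] f := by
    intro f
    have hf : f ∈ Algebra.adjoin M (Set.range i) := hgen ▸ trivial
    induction hf using Algebra.adjoin_induction with
    | mem x hx' => obtain ⟨x, rfl⟩ := hx'; exact hx x
    | algebraMap r =>
      rw [IsScalarTower.algebraMap_apply M M[X] S]
      exact isAlgebraic_algebraMap _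
    | add x y _ _ hx hy => exact hx.add hy
    | mul x y _ _ hx hy => exact hx.mul hy
  rw [injective_iff_map_eq_zero]
  intro f hf
  by_contra hne
  obtain ⟨r, hr0, g, hg⟩ := (hall f).exists_nonzero_dvd (mem_nonZeroDivisors_of_ne_zero hne)
  apply htr
  refine ⟨r, hr0, ?_⟩
  rw [Polynomial.aeval_algHom_apply, ← halg, hg, map_mul, hf, zero_mul]

theorem ld_aux [IsAlgClosed k] {z : K} (hz : Algebra.IsAlgebraic (IntermediateField.adjoin k {z}) K)
    (σ : K →ₐ[k] Ω) {M : Type u} [Field M] [Algebra k M] [Algebra M Ω] [IsScalarTower k M Ω]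
    (hzM : Transcendental M (σ z))
    {ι : Type*} [Fintype ι] {x : ι → K} (hx : LinearIndependent k x) {m : ι → M}
    (h0 : ∑ i, algebraMap M Ω (m i) * σ (x i) = 0) : m = 0 := by
  classical
  have hdom : IsDomain (M ⊗[k] K) := Groth.Agent.Fdesc.TensorDomain.isDomain_tensorProduct
  let φ : M ⊗[k] K →ₐ[M] Ω := Algebra.TensorProduct.lift (Algebra.ofId M Ω) σ (fun _ _ => Commute.all _ _)
  have hinj : Function.Injective φ := by
    refine injective_of (k := k) Algebra.TensorProduct.includeRight ?_ hz φ ?_
    · rw [eq_top_iff]
      rintro f -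
      induction f using TensorProduct.induction_on with
      | zero => exact zero_mem _
      | tmul a b =>
        have : a ⊗ₜ[k] b = a • ((1 : M) ⊗ₜ[k] b) := by
          rw [TensorProduct.smul_tmul', smul_eq_mul, mul_one]
        rw [this]
        exact Subalgebra.smul_mem _ (Algebra.subset_adjoin (Set.mem_range_self b)) a
      | add x y hx hy => exact add_mem hx hy
    · simpa [φ] using hzM
  have h1 : φ (∑ i, m i ⊗ₜ[k] x i) = 0 := by
    rw [map_sum, ← h0]
    refine Finset.sum_congr rfl fun i _ => ?_
    simp [φ, Algebra.ofId_apply]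
  have h2 : ∑ i, m i ⊗ₜ[k] x i = 0 := hinj (by rw [h1, map_zero])
  have h3 := Module.Flat.linearIndependent_one_tmul (S := M) hx
  rw [Fintype.linearIndependent_iff] at h3
  funext i
  exact h3 m (by
    rw [← h2]
    refine Finset.sum_congr rfl fun i _ => ?_
    rw [TensorProduct.smul_tmul', smul_eq_mul, mul_one]) i

/-- Linear disjointness. -/
theorem ld [IsAlgClosed k] {z : K} (hz : Algebra.IsAlgebraic (IntermediateField.adjoin k {z}) K)
    (σ : K →ₐ[k] Ω) {M : IntermediateField k Ω} (hM : Closed M) (hzM : σ z ∉ M)
    {ι : Type*} [Fintype ι] {x : ι → K} (hx : LinearIndependent k x) {m : ι → Ω}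
    (hm : ∀ i, m i ∈ M) (h0 : ∑ i, m i * σ (x i) = 0) : m = 0 := by
  have h1 := ld_aux hz σ (M := M) (fun h => hzM (hM _ h)) hx (m := fun i => ⟨m i, hm i⟩) h0
  funext i
  exact congrArg Subtype.val (congrFun h1 i)

/-- The image of a function field of one variable lies in a closed subfield as soon as a
transcendental element does. -/
theorem mem_of_mem {z : K} (hz : Algebra.IsAlgebraic (IntermediateField.adjoin k {z}) K)
    (σ : K →ₐ[k] Ω) {M : IntermediateField k Ω} (hM : Closed M) (hzM : σ z ∈ M) (x : K) :
    σ x ∈ M := by
  have h1 : IntermediateField.adjoin k {z} ≤ M.comap σ := by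
    rw [IntermediateField.adjoin_le_iff]
    rintro _ rfl
    exact hzM
  apply hM
  obtain ⟨p, hp, hp0⟩ := hz.isAlgebraic x
  let τ : IntermediateField.adjoin k {z} →+* M :=
    { toFun := fun a => ⟨σ a, h1 a.2⟩
      map_one' := by ext; simp
      map_mul' := fun a b => by ext; simp
      map_zero' := by ext; simp
      map_add' := fun a b => by ext; simp }
  refine ⟨p.map τ, ?_, ?_⟩
  · rwa [Ne, Polynomial.map_eq_zero]
  · rw [Polynomial.aeval_def, Polynomial.eval₂_map]
    have := congrArg σ hp0
    rw [map_zero, Polynomial.aeval_def] at this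
    change σ.toRingHom _ = _ at this
    rw [Polynomial.hom_eval₂] at this
    exact this

end K466.Clos
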