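import Groth.Agent.Curves.K466.ProjFr
import Groth.Agent.MiscA.CurveH1Place
import Groth.Prelude.Def_Omega4
import Groth.Prelude.Def_LinSer

/-!
# The affine coordinates of a nondegenerate map of a curve to projective space
-/

set_option autoImplicit false
set_option linter.unusedSectionVars false
universe u
open CategoryTheory CategoryTheory.Limits AlgebraicGeometry Opposite TopologicalSpace
open Groth.Agent.Fdesc.LocGen Groth.Agent.Ega3B.Frame
open Groth.Agent.Lefpen.H725.CocDef

namespace K466.CurveFr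

open Groth.Agent.MiscA Groth.Agent.MiscA.CurvePlaces K466.FrameRat K466.ProjFr

variable {k : Type u} [Field k] {X : Scheme.{u}} [IsIntegral X] {r : ℕ}
  (ψ : X ⟶ CohB1.ProjSpace r k)

/-- Nondegeneracy. -/
def NonDeg : Prop := ∀ s : LinSer.Sect (CohB1.ProjSpace r k) (Twist.twistProjSpace r k 1), s ≠ 0 →
  OmegaSh.pullSect ψ (Twist.twistProjSpace r k 1) ⊤ s ≠ 0

/-- The pulled back frame. -/
noncomputable abbrev F : SecFrame ((Scheme.Modules.pullback ψ).obj (Twist.twistProjSpace r k 1))
    (Fin (r + 1)) := (fr k r).pull ψ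

theorem mem_W_of_nondeg (h : NonDeg ψ) (j : Fin (r + 1)) : genericPoint X ∈ (F ψ).W j := by
  classical
  refine mem_W (F ψ) j ?_
  refine h ((fr k r).s j) ?_
  intro h0'
  have h0 : (fr k r).s j = (0 : Γ(Twist.twistProjSpace r k 1, ⊤)) := h0'
  have h1 := comb_eq_zero (k := k) (r := r) (c := Pi.single j 1) (by
    refine Finset.sum_eq_zero fun l _ => ?_
    by_cases hl : l = j
    · subst hl; rw [h0, smul_zero]
    · rw [Pi.single_eq_of_ne hl]
      have : cst k r 0 = 0 := by rw [cst, map_zero, map_zero]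
      rw [this, zero_smul])
  have h2 := congrFun h1 j
  rw [Pi.single_eq_same] at h2
  exact one_ne_zero h2

variable (f : X ⟶ Spec (CommRingCat.of k)) (hψ : ψ ≫ CohB1.ProjSpace.toSpec r k = f)
  [Algebra k X.functionField]
  (hk : genericPt X ≫ f = Spec.map (CommRingCat.ofHom (algebraMap k X.functionField)))
  (hW : ∀ j, genericPoint X ∈ (F ψ).W j)

include hψ hk in
theorem ff_cst (c : k) : ff ⊤ trivial (ψ.app ⊤ (cst k r c) : Γ(X, ⊤)) =
    algebraMap k X.functionField c := by
  rw [← CurveH1.val_toGlobal f hk c ⟨genericPoint X, trivial⟩]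
  have : Nonempty (⊤ : X.Opens) := ⟨genericPoint X, trivial⟩
  rw [CurveH1.val_eq]
  subst hψ
  rfl

include hψ hk in
theorem comb (h : NonDeg ψ) {c : Fin (r + 1) → k}
    (hc : ∑ j, algebraMap k X.functionField (c j) * rt (F ψ) hW j 0 = 0) : c = 0 := by
  apply comb_eq_zero
  by_contra hne
  apply h _ hne
  have h1 := sum_smul_eq_zero (F ψ) hW 0 (fun j => ψ.app ⊤ (cst k r (c j))) (by
    rw [← hc]
    refine Finset.sum_congr rfl fun j _ => ?_
    rw [ff_cst ψ f hψ hk])
  refine Eq.trans ?_ h1
  refine (map_sum (OmegaSh.pullSect ψ (Twist.twistProjSpace r k 1) ⊤).hom _ _).trans ?_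
  refine Finset.sum_congr rfl fun j _ => ?_
  exact pullSec_smul ψ (M := Twist.twistProjSpace r k 1) (U := ⊤) (cst k r (c j)) ((fr k r).s j)

/-- The affine coordinates. -/
noncomputable def y (i : Fin r) : X.functionField := rt (F ψ) hW i.succ 0

include hψ hk in
theorem linearIndependent (h : NonDeg ψ) :
    LinearIndependent k (fun o : Option (Fin r) => o.elim 1 (y ψ hW)) := by
  classical
  rw [Fintype.linearIndependent_iff]
  intro c hc
  let c' : Fin (r + 1) → k := Fin.cases (c none) fun i => c (some i)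
  have h1 : c' = 0 := by
    apply comb ψ f hψ hk hW h
    rw [Fin.sum_univ_succ, ← hc, Fintype.sum_option, rt_self, Option.elim_none,
      Algebra.smul_def]
    congr 1
    refine Finset.sum_congr rfl fun i _ => ?_
    rw [Algebra.smul_def]
    rfl
  intro o
  cases o with
  | none => exact congrFun h1 0
  | some i => exact congrFun h1 i.succ

/-- Polynomials in the affine coordinates, as rational functions. -/
noncomputable def ev : MvPolynomial (Fin r) k →+* X.functionField :=
  (ff ((F ψ).W 0) (hW 0)).comp ((ψ.app ((fr k r).W 0)).hom.comp (pc 0))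

theorem ev_X (i : Fin r) : ev ψ hW (MvPolynomial.X i) = y ψ hW i := by
  change ff _ _ (ψ.app ((fr k r).W 0) (pc 0 (MvPolynomial.X i))) = _
  rw [← g_succ]
  rfl

include hψ hk in
theorem ev_C (c : k) : ev ψ hW (MvPolynomial.C c) = algebraMap k X.functionField c := by
  change ff _ _ (ψ.app ((fr k r).W 0) (pc 0 (MvPolynomial.C c))) = _
  rw [← ores_cst, ← ff_cst ψ f hψ hk c]
  have h1 : ψ.app ((fr k r).W 0) (ores (le_top : (fr k r).W 0 ≤ ⊤) (cst k r c)) =
      ores (le_top : (F ψ).W 0 ≤ ⊤) (ψ.app ⊤ (cst k r c)) := by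
    have := ψ.naturality (homOfLE (le_top : (fr k r).W 0 ≤ ⊤)).op
    exact congr($(this).hom (cst k r c))
  rw [h1]
  exact ff_ores (le_top : (F ψ).W 0 ≤ ⊤) (hW 0) (ψ.app ⊤ (cst k r c) : Γ(X, ⊤))

include hψ hk in
/-- If the map on stalks at the generic point is surjective, the affine coordinates generate the
function field. -/
theorem adjoin_eq_top (hs : Function.Surjective (ψ.stalkMap (genericPoint X)).hom) :
    IntermediateField.adjoin k (Set.range (y ψ hW)) = ⊤ := by
  rw [← top_le_iff]
  rintro x -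
  set M := IntermediateField.adjoin k (Set.range (y ψ hW)) with hM
  have hev : ∀ p, ev ψ hW p ∈ M := by
    intro p
    induction p using MvPolynomial.induction_on with
    | C c => rw [ev_C ψ f hψ hk hW]; exact M.algebraMap_mem c
    | add p q hp hq => rw [map_add]; exact add_mem hp hq
    | mul_X p i hp =>
      rw [map_mul, ev_X]
      exact mul_mem hp (IntermediateField.subset_adjoin _ _ ⟨i, rfl⟩)
  obtain ⟨t, ht⟩ := hs x
  have hU : IsAffineOpen ((fr k r).W 0) := Groth.Agent.Lefpen.H705.HypIdeal.isAffineOpen_chart (r := r) (k := k) 0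
  let _ := (CohB1.ProjSpace r k).presheaf.algebra_section_stalk
    (⟨ψ (genericPoint X), hW 0⟩ : (fr k r).W 0)
  have hloc : IsLocalization.AtPrime ((CohB1.ProjSpace r k).presheaf.stalk (ψ (genericPoint X)))
      (hU.primeIdealOf ⟨ψ (genericPoint X), hW 0⟩).asIdeal :=
    hU.isLocalization_stalk ⟨ψ (genericPoint X), hW 0⟩
  obtain ⟨⟨a, s⟩, hs'⟩ := IsLocalization.surj
    (hU.primeIdealOf ⟨ψ (genericPoint X), hW 0⟩).asIdeal.primeCompl t
  have hunit := IsLocalization.map_units
    ((CohB1.ProjSpace r k).presheaf.stalk (ψ (genericPoint X))) s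
  obtain ⟨p, hp⟩ := pc_surjective (r := r) (k := k) 0 a
  obtain ⟨q, hq⟩ := pc_surjective (r := r) (k := k) 0 s.1
  have hgerm : ∀ b : Γ(CohB1.ProjSpace r k, (fr k r).W 0),
      (ψ.stalkMap (genericPoint X)).hom (algebraMap Γ(CohB1.ProjSpace r k, (fr k r).W 0)
        ((CohB1.ProjSpace r k).presheaf.stalk (ψ (genericPoint X))) b) =
      ff ((F ψ).W 0) (hW 0) (ψ.app ((fr k r).W 0) b) := by
    intro b
    exact Scheme.Hom.germ_stalkMap_apply ψ ((fr k r).W 0) (genericPoint X) (hW 0) b
  have h1 := congrArg (ψ.stalkMap (genericPoint X)).hom hs'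
  rw [map_mul, ht, hgerm, hgerm] at h1
  have h2 : ff ((F ψ).W 0) (hW 0) (ψ.app ((fr k r).W 0) a) = ev ψ hW p := by
    rw [← hp]; rfl
  have h3 : ff ((F ψ).W 0) (hW 0) (ψ.app ((fr k r).W 0) s.1) = ev ψ hW q := by
    rw [← hq]; rfl
  have h4 : ev ψ hW q ≠ 0 := by
    rw [← h3, ← hgerm]
    exact (hunit.map (ψ.stalkMap (genericPoint X)).hom).ne_zero
  rw [h2, h3] at h1
  have h5 : (show X.functionField from x) = ev ψ hW p / ev ψ hW q := by
    rw [eq_div_iff h4]
    exact h1
  rw [show x = (show X.functionField from x) from rfl, h5]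
  exact div_mem (hev p) (hev q)

end K466.CurveFr
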