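import Groth.Agent.Curves.K466.Clos
import Groth.Agent.Lefpen.H702.Generic
import Mathlib.RingTheory.Derivation.Basic
import Mathlib.Algebra.Polynomial.Bivariate
import Mathlib.LinearAlgebra.FiniteDimensional.Basic

/-!
# Derivations and generic points of a curve in characteristic zero

* `cst D`: the field of constants of a derivation, relatively algebraically closed;
* `der_comp`: `D (σ x) = D (σ z) σ (x')` for a function field of one variable;
* `ode`: a vector with coordinates linearly independent over the constants does not satisfy a linear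
  equation of order one modulo a small constant subspace.
-/

set_option autoImplicit false
set_option linter.unusedSectionVars false
universe u v
open Polynomial IntermediateField

namespace K466.DerPts

open K466.Clos

theorem charZero_intermediateField {k A : Type u} [Field k] [Field A] [CharZero A] [Algebra k A]
    (M : IntermediateField k A) : CharZero M :=
  ⟨fun a b h => Nat.cast_injective (R := A) (by simpa using congrArg (algebraMap M A) h)⟩

section cst

variable {k A : Type u} {V : Type v} [Field k] [Field A] [CharZero A] [Algebra k A] [AddCommGroup V]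
  [Module A V] [Module k V] [IsScalarTower k A V] (D : Derivation k A V)

/-- The field of constants. -/
def cst : IntermediateField k A where
  carrier := {a | D a = 0}
  mul_mem' := by
    intro a b ha hb
    change D (a * b) = 0
    rw [D.leibniz, show D a = 0 from ha, show D b = 0 from hb, smul_zero, smul_zero, add_zero]
  add_mem' := by
    intro a b ha hb
    change D (a + b) = 0
    rw [map_add, show D a = 0 from ha, show D b = 0 from hb, add_zero]
  algebraMap_mem' := fun r => D.map_algebraMap r
  inv_mem' := by
    intro a ha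
    change D a⁻¹ = 0
    rw [D.leibniz_inv, show D a = 0 from ha, smul_zero]

theorem mem_cst {a : A} : a ∈ cst D ↔ D a = 0 := Iff.rfl

theorem closed_cst : Closed (cst D) := by
  intro y hy
  let D' : Derivation (cst D) A V := Derivation.mk'
    { toFun := D
      map_add' := map_add D
      map_smul' := by
        intro m a
        change D ((m : A) * a) = (m : A) • D a
        rw [D.leibniz, show D (m : A) = 0 from m.2, smul_zero, add_zero] } (fun a b => D.leibniz a b)
  have h1 : D' (aeval y (minpoly (cst D) y)) = 0 := by rw [minpoly.aeval, map_zero]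
  rw [D'.map_aeval] at h1
  have : CharZero (cst D) := charZero_intermediateField _
  have hi : Irreducible (minpoly (cst D) y) := minpoly.irreducible hy.isIntegral
  have hs : (minpoly (cst D) y).Separable := hi.separable
  have h2 : aeval y (derivative (minpoly (cst D) y)) ≠ 0 :=
    hs.aeval_derivative_ne_zero (minpoly.aeval _ _)
  rcases smul_eq_zero.1 h1 with h | h
  · exact absurd h h2
  · exact h

end cst


section der

variable {k K Ω : Type u} [Field k] [Field K] [Field Ω] [Algebra k K] [Algebra k Ω] [CharZero K]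
  [CharZero Ω]

/-- Existence of a derivation with `D z = 1`. -/
theorem exists_der [CharZero k] {z : K} (hz : Transcendental k z) :
    ∃ D : Derivation k K K, D z = 1 := by
  obtain ⟨D, hD⟩ := Groth.Agent.Lefpen.H702.Generic.exists_derivation (k := k) (fun _ : Unit => z)
    (algebraicIndependent_unique_type_iff.2 hz) (fun _ => 1)
  exact ⟨D, hD ()⟩

/-- A derivation composed with a generic point. -/
theorem der_comp {z : K} (hz : Algebra.IsAlgebraic (IntermediateField.adjoin k {z}) K)
    (DK : Derivation k K K) (hDK : DK z = 1) (σ : K →ₐ[k] Ω) (D : Derivation k Ω Ω) (x : K) :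
    D (σ x) = D (σ z) * σ (DK x) := by
  let _ : Algebra K Ω := σ.toRingHom.toAlgebra
  have : IsScalarTower k K Ω := .of_algebraMap_eq fun a => (σ.commutes a).symm
  have hsm : ∀ (a : K) (b : Ω), a • b = σ a * b := fun a b => rfl
  let δ : Derivation k K Ω := Derivation.mk'
    (D.toLinearMap ∘ₗ σ.toLinearMap - (LinearMap.mulLeft k (D (σ z))) ∘ₗ σ.toLinearMap ∘ₗ DK.toLinearMap) (by
      intro a b
      change D (σ (a * b)) - D (σ z) * σ (DK (a * b)) =
        a • (D (σ b) - D (σ z) * σ (DK b)) + b • (D (σ a) - D (σ z) * σ (DK a))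
      rw [map_mul, D.leibniz, DK.leibniz, hsm, hsm]
      simp only [smul_eq_mul, map_add, map_mul]
      ring)
  have hδ : ∀ a, δ a = D (σ a) - D (σ z) * σ (DK a) := fun a => rfl
  have h1 : z ∈ cst δ := by
    rw [mem_cst, hδ, hDK, map_one, mul_one, sub_self]
  have h2 : x ∈ cst δ := by
    apply closed_cst δ
    have h3 : IntermediateField.adjoin k {z} ≤ cst δ := by
      rw [IntermediateField.adjoin_le_iff]
      rintro _ rfl
      exact h1
    let _ : Algebra (IntermediateField.adjoin k {z}) (cst δ) :=
      (IntermediateField.inclusion h3).toRingHom.toAlgebra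
    have _ : IsScalarTower (IntermediateField.adjoin k {z}) (cst δ) K :=
      .of_algebraMap_eq fun x => rfl
    exact (hz.isAlgebraic x).extendScalars
      (algebraMap (IntermediateField.adjoin k {z}) (cst δ)).injective
  rw [mem_cst, hδ, sub_eq_zero] at h2
  exact h2

end der

section exch

variable {M Ω : Type u} [Field M] [Field Ω] [Algebra M Ω]

open scoped IntermediateField.algebraAdjoinAdjoin in
/-- Exchange. -/
theorem exch {y w : Ω} (hy : y ∈ cl M {w}) (hy' : ¬ IsAlgebraic M y) : w ∈ cl M {y} := by
  rw [mem_cl] at hy ⊢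
  obtain ⟨P, hP, hP0⟩ := exists_poly hy
  let τ : M[X] →ₐ[M] IntermediateField.adjoin M {y} :=
    Polynomial.aeval ⟨y, IntermediateField.mem_adjoin_simple_self M y⟩
  have hτ : ∀ f, ((τ f : IntermediateField.adjoin M {y}) : Ω) = Polynomial.aeval y f := by
    intro f
    change (IntermediateField.adjoin M {y}).val _ = _
    rw [← Polynomial.aeval_algHom_apply]
    rfl
  have hinj : Function.Injective τ.toRingHom := by
    rw [injective_iff_map_eq_zero]
    intro f hf
    by_contra hne
    apply hy'
    refine ⟨f, hne, ?_⟩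
    rw [← hτ]
    exact congrArg Subtype.val hf
  have hval : ∀ (a b : Ω) (Q : M[X][X]), Polynomial.aevalAeval a b Q =
      Q.eval₂ (Polynomial.aeval a : M[X] →ₐ[M] Ω).toRingHom b := by
    intro a b Q
    induction Q using Polynomial.induction_on' with
    | add p q hp hq => rw [map_add, hp, hq, Polynomial.eval₂_add]
    | monomial n f =>
      rw [Polynomial.eval₂_monomial, ← Polynomial.C_mul_X_pow_eq_monomial, map_mul, map_pow,
        Polynomial.aevalAeval_C, Polynomial.aevalAeval_Y]
      rfl
  refine ⟨(Polynomial.Bivariate.swap P).map τ.toRingHom, ?_, ?_⟩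
  · rw [Ne, Polynomial.map_eq_zero_iff hinj, EmbeddingLike.map_eq_zero_iff]
    exact hP
  · rw [Polynomial.aeval_def, Polynomial.eval₂_map]
    have hr : (algebraMap (IntermediateField.adjoin M {y}) Ω).comp τ.toRingHom =
        (Polynomial.aeval y : M[X] →ₐ[M] Ω).toRingHom := by
      ext f
      · exact hτ _
      · exact hτ _
    rw [hr, ← hval, Polynomial.Bivariate.aevalAeval_swap, hval]
    exact hP0

variable [CharZero Ω]

theorem algebraic_of_der (D : Derivation M Ω Ω) {y w : Ω} (hw : D w ≠ 0) (hy : y ∈ cl M {w})
    (hDy : D y = 0) : IsAlgebraic M y := by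
  by_contra h
  have h1 := exch hy h
  have h2 : cl M {y} ≤ cst D := cl_le (closed_cst D) (by
    rintro _ rfl
    exact hDy)
  exact hw (h2 h1)

end exch

section ode

variable {k Ω : Type u} [Field k] [Field Ω] [Algebra k Ω]

/-- A vector with coordinates linearly independent over the constants does not satisfy a linear
equation of order one modulo a small subspace of constant vectors. -/
theorem ode (D : Derivation k Ω Ω) (M N : IntermediateField k Ω) (hMN : M ≤ N)
    (hM : ∀ m ∈ M, D m = 0) (hN : ∀ y ∈ N, D y = 0 → y ∈ M)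
    {ι κ : Type*} [Fintype ι] [Fintype κ] (v : ι → Ω) (hv : ∀ i, v i ∈ N)
    (hli : ∀ m : ι → Ω, (∀ i, m i ∈ M) → ∑ i, m i * v i = 0 → m = 0)
    (w : κ → ι → Ω) (hw : ∀ j i, w j i ∈ M) (hcard : Fintype.card κ + 2 ≤ Fintype.card ι)
    (b : Ω) (c : κ → Ω) (h : ∀ i, D (v i) = b * v i + ∑ j, c j * w j i) : False := by
  classical
  let T : (ι → M) →ₗ[M] (κ → M) := LinearMap.pi fun j =>
    ∑ i, (⟨w j i, hw j i⟩ : M) • LinearMap.proj i
  have hT : ∀ m j, ((T m j : M) : Ω) = ∑ i, w j i * (m i : Ω) := by
    intro m j
    simp [T]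
  have h1 : 2 ≤ Module.finrank M (LinearMap.ker T) := by
    have h2 := T.finrank_range_add_finrank_ker
    have h3 := Submodule.finrank_le (LinearMap.range T)
    rw [Module.finrank_fintype_fun_eq_card] at h2 h3
    omega
  obtain ⟨l, hl⟩ : ∃ l : LinearMap.ker T, l ≠ 0 := by
    by_contra hcon
    push Not at hcon
    have : Subsingleton (LinearMap.ker T) := ⟨fun a b => (hcon a).trans (hcon b).symm⟩
    rw [Module.finrank_zero_of_subsingleton] at h1
    omega
  obtain ⟨l', hl'⟩ : ∃ l' : LinearMap.ker T, ∀ m : M, m • l ≠ l' := by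
    by_contra hcon
    push Not at hcon
    have := finrank_le_one l (fun w => (hcon w))
    omega
  -- the functions
  let ev : (ι → M) → Ω := fun m => ∑ i, (m i : Ω) * v i
  have hev : ∀ m, ev m = 0 → m = 0 := by
    intro m hm
    have := hli (fun i => m i) (fun i => (m i).2) hm
    funext i
    exact Subtype.ext (congrFun this i)
  have hDev : ∀ m ∈ LinearMap.ker T, D (ev m) = b * ev m := by
    intro m hm
    change D (∑ i, (m i : Ω) * v i) = b * ∑ i, (m i : Ω) * v i
    rw [map_sum, Finset.mul_sum]
    have h4 : ∀ i, D ((m i : Ω) * v i) = b * ((m i : Ω) * v i) + ∑ j, c j * (w j i * (m i : Ω)) := by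
      intro i
      rw [D.leibniz, hM _ (m i).2, smul_zero, add_zero, smul_eq_mul, h i, mul_add, Finset.mul_sum]
      congr 1
      · ring
      · refine Finset.sum_congr rfl fun j _ => by ring
    rw [Finset.sum_congr rfl fun i _ => h4 i, Finset.sum_add_distrib, Finset.sum_comm]
    rw [add_eq_left]
    refine Finset.sum_eq_zero fun j _ => ?_
    rw [← Finset.mul_sum, ← hT, LinearMap.mem_ker.1 hm]
    simp
  have hevN : ∀ m, ev m ∈ N := fun m => sum_mem fun i _ => mul_mem (hMN (m i).2) (hv i)
  have hne : ev l.1 ≠ 0 := fun h0 => hl (Subtype.ext (hev _ h0))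
  have hq : D (ev l'.1 / ev l.1) = 0 := by
    rw [D.leibniz_div, hDev _ l.2, hDev _ l'.2]
    simp only [smul_eq_mul]
    ring
  have hqM : ev l'.1 / ev l.1 ∈ M := hN _ (div_mem (hevN _) (hevN _)) hq
  apply hl' ⟨_, hqM⟩
  symm
  rw [← sub_eq_zero]
  apply Subtype.ext
  apply hev
  have h5 : ∀ i, ((l'.1 i - (⟨ev l'.1 / ev l.1, hqM⟩ : M) * l.1 i : M) : Ω) =
    (l'.1 i : Ω) - ev l'.1 / ev l.1 * (l.1 i : Ω) := fun i => rfl
  change ∑ i, ((l'.1 i - (⟨ev l'.1 / ev l.1, hqM⟩ : M) * l.1 i : M) : Ω) * v i = 0
  simp only [h5, sub_mul, Finset.sum_sub_distrib, mul_assoc, ← Finset.mul_sum]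
  change ev l'.1 - ev l'.1 / ev l.1 * ev l.1 = 0
  rw [div_mul_cancel₀ _ hne, sub_self]

end ode

end K466.DerPts
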