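import Groth.Agent.Ega3B.Frame
import Groth.Agent.Lefpen.H725.CocDef
import Groth.Agent.Lefpen.H521.CartierCoc

/-!
# The rational functions `s_j / s_k` of a frame on an integral scheme

* `mem_W`: `s_j` generates at the generic point if it is not zero;
* `rt F j k = s_j / s_k`, `rt_mul`, `hasCoc`;
* `sum_smul_eq_zero`: `∑ b_j s_j = 0` if `∑ b_j (s_j / s_k) = 0`.
-/

set_option autoImplicit false
set_option linter.unusedSectionVars false
universe u
open CategoryTheory CategoryTheory.Limits AlgebraicGeometry Opposite TopologicalSpace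
open Groth.Agent.Fdesc.LocGen Groth.Agent.Ega3B.Frame
open Groth.Agent.Lefpen.H725.CocDef

namespace K466.FrameRat

variable {X : Scheme.{u}} [IsIntegral X] {L : X.Modules} {ι : Type*} (F : SecFrame L ι)

theorem ff_injective {U : X.Opens} (h : genericPoint X ∈ U) : Function.Injective (ff U h) := by
  have : Nonempty U := ⟨⟨_, h⟩⟩
  exact germ_injective_of_isIntegral X (genericPoint X) h

theorem ff_ores {U V : X.Opens} (h : V ≤ U) (hV : genericPoint X ∈ V) (a : Γ(X, U)) :
    ff V hV (ores h a) = ff U (h hV) a :=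
  X.presheaf.germ_res_apply (homOfLE h) _ hV a

theorem mem_W (j : ι) (hj : F.s j ≠ 0) : genericPoint X ∈ F.W j := by
  by_contra hcon
  apply hj
  have hbot : F.W j = ⊥ := by
    by_contra hne
    apply hcon
    have hne' : ((F.W j : X.Opens) : Set X).Nonempty := by
      rw [Set.nonempty_iff_ne_empty]
      intro h0
      exact hne (SetLike.coe_injective h0)
    exact (genericPoint_spec X).mem_open_set_iff (F.W j).2 |>.2 (by simpa using hne')
  refine res_ext L F.W (fun _ => le_top) (by rw [F.cov]) fun k => ?_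
  rw [F.eq_smul j k, map_zero]
  have h1 : X.basicOpen (F.g j k) = ⊥ := by rw [F.basic, hbot, bot_inf_eq]
  rw [basicOpen_eq_bot_iff] at h1
  rw [h1, zero_smul]

variable (hW : ∀ j, genericPoint X ∈ F.W j)

/-- The rational function `s_j / s_k`. -/
noncomputable def rt (j k : ι) : X.functionField := ff (F.W k) (hW k) (F.g j k)

theorem g_mul (i j k : ι) : ores (inf_le_right : F.W j ⊓ F.W k ≤ F.W k) (F.g i k) =
    ores (inf_le_left : F.W j ⊓ F.W k ≤ F.W j) (F.g i j) *
      ores (inf_le_right : F.W j ⊓ F.W k ≤ F.W k) (F.g j k) := by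
  apply ((F.gen k).res (inf_le_right : F.W j ⊓ F.W k ≤ F.W k)).ext
  rw [mul_smul, ← res_smul, ← res_smul, ← F.eq_smul, ← F.eq_smul, res_res, res_res]
  have h1 := congrArg (res L (inf_le_left : F.W j ⊓ F.W k ≤ F.W j)) (F.eq_smul i j)
  rw [res_smul, res_res, res_res] at h1
  exact h1

theorem rt_mul (i j k : ι) : rt F hW i j * rt F hW j k = rt F hW i k := by
  have h := congrArg (ff (F.W j ⊓ F.W k) ⟨hW j, hW k⟩) (g_mul F i j k)
  rw [map_mul, ff_ores, ff_ores, ff_ores] at h
  exact h.symm

theorem rt_self (j : ι) : rt F hW j j = 1 := by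
  have h : F.g j j = 1 := by
    apply (F.gen j).ext
    rw [one_smul, ← F.eq_smul]
  rw [rt, h, map_one]

theorem rt_ne_zero (j k : ι) : rt F hW j k ≠ 0 := by
  intro h0
  have h := rt_mul F hW j k j
  rw [h0, zero_mul, rt_self] at h
  exact zero_ne_one h



/-- The cocycle of the frame. -/
theorem hasCoc (i₀ : ι) (c : X → ι) (hc : ∀ x, x ∈ F.W (c x)) :
    HasCoc L fun x => rt F hW (c x) i₀ := by
  refine ⟨fun x => rt_ne_zero F hW _ _, fun x => F.W (c x), hc,
    fun x => res L le_top (F.s (c x)), fun x => F.gen (c x), fun x y =>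
    ⟨ores inf_le_right (F.g (c x) (c y)), ⟨hW _, hW _⟩, ?_, ?_⟩⟩
  · have h1 := congrArg (res L (inf_le_right : F.W (c x) ⊓ F.W (c y) ≤ F.W (c y)))
      (F.eq_smul (c x) (c y))
    rw [res_smul, res_res] at h1
    rw [res_res]
    exact h1
  · rw [ff_ores]
    exact (rt_mul F hW (c x) (c y) i₀).symm

/-- Linear relations between the sections are the linear relations between the rational functions. -/
theorem sum_smul_eq_zero [Fintype ι] (i₀ : ι) (b : ι → Γ(X, ⊤))
    (h : ∑ j, ff ⊤ trivial (b j) * rt F hW j i₀ = 0) : ∑ j, b j • F.s j = 0 := by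
  refine res_ext L F.W (fun _ => le_top) (by rw [F.cov]) fun k => ?_
  rw [map_zero, map_sum]
  have h1 : ∀ j, res L (le_top : F.W k ≤ ⊤) (b j • F.s j) =
      (ores (le_top : F.W k ≤ ⊤) (b j) * F.g j k) • res L (le_top : F.W k ≤ ⊤) (F.s k) := by
    intro j
    rw [res_smul, F.eq_smul j k, mul_smul]
  rw [Finset.sum_congr rfl fun j _ => h1 j, ← Finset.sum_smul]
  have h2 : ∑ j, ores (le_top : F.W k ≤ ⊤) (b j) * F.g j k = 0 := by
    apply ff_injective (hW k)
    rw [map_zero, map_sum]
    have h3 : ∀ j, ff (F.W k) (hW k) (ores (le_top : F.W k ≤ ⊤) (b j) * F.g j k) =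
        ff ⊤ trivial (b j) * rt F hW j i₀ * rt F hW i₀ k := by
      intro j
      rw [map_mul, ff_ores, mul_assoc, rt_mul]
      rfl
    rw [Finset.sum_congr rfl fun j _ => h3 j, ← Finset.sum_mul, h, zero_mul]
  rw [h2, zero_smul]

end K466.FrameRat
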