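import Groth.Agent.Curves.K466.DerPts
import Mathlib.Algebra.BigOperators.Field

/-!
# General position lemma in characteristic zero

`main`: let `K` be a function field of one variable over an algebraically closed field `k` of
characteristic zero, `x : ι → K` linearly independent functions separating embeddings, and `t`
algebraically independent over `k` in `Ω`.  Any `m < #ι` of the points of the generic hyperplane section
`∑ t_i x_i = 0` are linearly independent.
-/

set_option autoImplicit false
set_option linter.unusedSectionVars false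
universe u
open Polynomial IntermediateField

namespace K466.GenPos

open K466.Clos K466.DerPts

variable {k K Ω : Type u} [Field k] [IsAlgClosed k] [CharZero k] [Field K] [CharZero K] [Field Ω]
  [CharZero Ω] [Algebra k K] [Algebra k Ω]

/-- The transcendence degree count. -/
theorem not_mem {ι : Type} [Fintype ι] [Nonempty ι] (t : ι → Ω) (ht : AlgebraicIndependent k t)
    {m : ℕ} (v : Fin m → ι → Ω) (hLI : LinearIndependent Ω v) (Z : Fin m → Ω) (j : Fin m)
    (hv : ∀ i l, v i l ∈ cl k (Set.range Z)) (htv : ∀ i, ∑ l, t l * v i l = 0) :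
    Z j ∉ cl k (Z '' {j}ᶜ) := by
  classical
  intro hj
  set N := cl k (Set.range Z) with hN
  set S : Set Ω := Z '' {j}ᶜ with hS
  have hSfin : S.Finite := Set.toFinite _
  have hScard : S.ncard ≤ m - 1 := by
    refine (Set.ncard_image_le (Set.toFinite _)).trans ?_
    rw [Set.ncard_compl, Set.ncard_singleton]
    simp
  have hNS : N ≤ cl k S := by
    refine cl_le (closed_cl S) ?_
    rintro _ ⟨i, rfl⟩
    by_cases hij : i = j
    · rw [hij]; exact hj
    · exact subset_cl S ⟨i, hij, rfl⟩
  -- the span of `t` over `N`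
  let T : (ι → N) →ₗ[N] Ω := Fintype.linearCombination N t
  have hT : ∀ f, T f = ∑ l, (f l : Ω) * t l := fun f => by
    rw [Fintype.linearCombination_apply]
    rfl
  let w : Fin m → LinearMap.ker T := fun i => ⟨fun l => ⟨v i l, hv i l⟩, by
    rw [LinearMap.mem_ker, hT]
    rw [← htv i]
    exact Finset.sum_congr rfl fun l _ => mul_comm _ _⟩
  have hw : LinearIndependent N w := by
    have h1 : LinearIndependent N v := hLI.restrict_scalars (by
      intro a b hab
      simpa [Algebra.smul_def] using hab)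
    let ψ : LinearMap.ker T →ₗ[N] (ι → Ω) :=
      (LinearMap.pi fun l => (Algebra.linearMap N Ω) ∘ₗ LinearMap.proj l) ∘ₗ (LinearMap.ker T).subtype
    exact LinearIndependent.of_comp ψ h1
  have h2 : m ≤ Module.finrank N (LinearMap.ker T) := by
    simpa using hw.fintype_card_le_finrank
  have h3 := T.finrank_range_add_finrank_ker
  rw [Module.finrank_fintype_fun_eq_card] at h3
  let b := Module.finBasis N (LinearMap.range T)
  let S' : Set Ω := S ∪ Set.range (fun l => (b l : Ω))
  have hS' : S'.Finite := hSfin.union (Set.finite_range _)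
  have hS'card : S'.ncard ≤ (m - 1) + Module.finrank N (LinearMap.range T) := by
    refine (Set.ncard_union_le _ _).trans (add_le_add hScard ?_)
    rw [← Set.image_univ]
    refine (Set.ncard_image_le (Set.toFinite _)).trans ?_
    rw [Set.ncard_univ]
    simp
  have ht' : ∀ i, t i ∈ cl k S' := by
    intro i
    have hi : t i ∈ LinearMap.range T := ⟨Pi.single i 1, by
      rw [hT, Finset.sum_eq_single i]
      · simp
      · intro l _ hl; simp [hl]
      · simp⟩
    have h4 := congrArg (fun a : LinearMap.range T => (a : Ω)) (b.sum_repr ⟨t i, hi⟩)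
    simp only [AddSubmonoidClass.coe_finsetSum, SetLike.val_smul] at h4
    rw [← h4]
    refine sum_mem fun l _ => ?_
    rw [Algebra.smul_def]
    exact mul_mem (cl_mono Set.subset_union_left (hNS (b.repr ⟨t i, hi⟩ l).2))
      (subset_cl S' (Or.inr ⟨l, rfl⟩))
  have h5 := card_le hS' (t ∘ (Fintype.equivFin ι).symm)
    (ht.comp _ (Fintype.equivFin ι).symm.injective) (fun i => ht' _)
  have h6 : 0 < Fintype.card ι := Fintype.card_pos
  have h7 := j.pos
  omega

theorem closed_restrict {k Ω : Type u} [Field k] [Field Ω] [Algebra k Ω] {M : IntermediateField k Ω}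
    {E : IntermediateField M Ω} (h : Closed E) : Closed (E.restrictScalars k) :=
  fun y hy => h y hy

theorem cl_restrict {k Ω : Type u} [Field k] [Field Ω] [Algebra k Ω] {M : IntermediateField k Ω}
    {S T : Set Ω} (h : T ⊆ M ∪ S) : cl k T ≤ (cl M S).restrictScalars k := by
  refine cl_le (closed_restrict (closed_cl _)) ?_
  intro y hy
  rcases h hy with h | h
  · exact (cl M S).algebraMap_mem (⟨y, h⟩ : M)
  · exact subset_cl S h

/-- A derivation over a closed subfield. -/
theorem exists_partial_aux (M N : IntermediateField k Ω) (hMc : Closed M) {w : Ω} (hw : w ∉ M)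
    (hN : N ≤ (cl M {w}).restrictScalars k) :
    ∃ D : Derivation k Ω Ω, D w = 1 ∧ (∀ y ∈ M, D y = 0) ∧ (∀ y ∈ N, D y = 0 → y ∈ M) := by
  have : CharZero M := charZero_intermediateField M
  obtain ⟨D, hD⟩ := exists_der (k := M) (K := Ω) (z := w) (fun h => hw (hMc _ h))
  refine ⟨D.restrictScalars k, hD, fun y hy => ?_, fun y hy hDy => ?_⟩
  · exact D.map_algebraMap (⟨y, hy⟩ : M)
  · exact hMc _ (algebraic_of_der D (w := w) (by rw [hD]; exact one_ne_zero) (hN hy) hDy)

/-- The partial derivative along one generic point. -/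
theorem exists_partial {z : K}
    {m : ℕ} (σ : Fin m → K →ₐ[k] Ω) (j : Fin m)
    (hj : σ j z ∉ cl k ((fun i => σ i z) '' {j}ᶜ)) :
    ∃ D : Derivation k Ω Ω, D (σ j z) = 1 ∧
      (∀ y ∈ cl k ((fun i => σ i z) '' {j}ᶜ), D y = 0) ∧
      (∀ y ∈ cl k (Set.range fun i => σ i z), D y = 0 → y ∈ cl k ((fun i => σ i z) '' {j}ᶜ)) := by
  refine exists_partial_aux _ _ (closed_cl _) hj (cl_restrict ?_)
  rintro _ ⟨i, rfl⟩
  by_cases hij : i = j
  · rw [hij]; exact Or.inr rfl
  · exact Or.inl (subset_cl _ ⟨i, hij, rfl⟩)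

theorem core {z : K} (hz : Algebra.IsAlgebraic (IntermediateField.adjoin k {z}) K)
    (hzt : Transcendental k z)
    {ι : Type} [Fintype ι] [Nonempty ι] (x : ι → K) (hx : LinearIndependent k x)
    (t : ι → Ω) (ht : AlgebraicIndependent k t) {m : ℕ} (σ : Fin m → K →ₐ[k] Ω) (τ : K →ₐ[k] Ω)
    (hLI : LinearIndependent Ω (fun j i => σ j (x i))) (htσ : ∀ j, ∑ i, t i * σ j (x i) = 0)
    (a : Fin m → Ω) (ha : ∀ i, τ (x i) = ∑ j, a j * σ j (x i)) (j₀ j₁ : Fin m) (hne : j₀ ≠ j₁)
    (ha0 : a j₀ ≠ 0) (ha1 : a j₁ ≠ 0) (hcard : m + 2 ≤ Fintype.card ι) : False := by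
  classical
  obtain ⟨DK, hDK⟩ := exists_der (k := k) hzt
  set Z : Fin m → Ω := fun j => σ j z with hZ
  set N := cl k (Set.range Z) with hN
  have hNc : Closed N := closed_cl _
  have hσN : ∀ j y, σ j y ∈ N := fun j y =>
    mem_of_mem hz (σ j) hNc (subset_cl _ ⟨j, rfl⟩) y
  have hzM : ∀ j, Z j ∉ cl k (Z '' {j}ᶜ) := fun j =>
    not_mem t ht (fun j i => σ j (x i)) hLI Z j (fun i l => hσN i _) htσ
  have hσM : ∀ i j, j ≠ i → ∀ y, σ j y ∈ cl k (Z '' {i}ᶜ) := fun i j hij y =>
    mem_of_mem hz (σ j) (closed_cl (Z '' {i}ᶜ)) (subset_cl (Z '' {i}ᶜ) ⟨j, hij, rfl⟩) y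
  have hMN : ∀ i, cl k (Z '' {i}ᶜ) ≤ N := fun i => cl_mono (Set.image_subset_range _ _)
  -- the last point is algebraic over the others
  have hτz : τ z ∈ N := by
    by_contra hcon
    let T : (ι → N) →ₗ[N] (Fin m → N) := LinearMap.pi fun j =>
      ∑ i, (⟨σ j (x i), hσN j _⟩ : N) • LinearMap.proj i
    have hT : ∀ f j, ((T f j : N) : Ω) = ∑ i, σ j (x i) * (f i : Ω) := by
      intro f j
      simp [T]
    have h1 : LinearMap.ker T ≠ ⊥ := by
      apply LinearMap.ker_ne_bot_of_finrank_lt
      rw [Module.finrank_fintype_fun_eq_card, Module.finrank_fintype_fun_eq_card, Fintype.card_fin]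
      omega
    obtain ⟨f, hf, hf0⟩ := (Submodule.ne_bot_iff _).1 h1
    have h2 : ∀ j, ∑ i, σ j (x i) * (f i : Ω) = 0 := by
      intro j
      rw [← hT, LinearMap.mem_ker.1 hf]
      rfl
    have h3 := ld hz τ hNc hcon hx (m := fun i => (f i : Ω)) (fun i => (f i).2) (by
      have h4 : ∀ i, (f i : Ω) * τ (x i) = ∑ j, a j * (σ j (x i) * (f i : Ω)) := by
        intro i
        rw [ha i, Finset.mul_sum]
        exact Finset.sum_congr rfl fun j _ => by ring
      rw [Finset.sum_congr rfl fun i _ => h4 i, Finset.sum_comm]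
      refine Finset.sum_eq_zero fun j _ => ?_
      rw [← Finset.mul_sum, h2, mul_zero])
    apply hf0
    funext i
    exact Subtype.ext (congrFun h3 i)
  -- the differential identities
  have key : ∀ i, ∃ D : Derivation k Ω Ω, ∃ c : Ω,
      (∀ y ∈ cl k (Z '' {i}ᶜ), D y = 0) ∧ (∀ y ∈ N, D y = 0 → y ∈ cl k (Z '' {i}ᶜ)) ∧
      (∀ y, D (σ i y) = σ i (DK y)) ∧
      ∀ l, c * τ (DK (x l)) = a i * σ i (DK (x l)) + ∑ j, D (a j) * σ j (x l) := by
    intro i
    obtain ⟨D, hD1, hD2, hD3⟩ := exists_partial σ i (hzM i)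
    have hDi : ∀ y, D (σ i y) = σ i (DK y) := fun y => by
      rw [der_comp hz DK hDK (σ i) D y, hD1, one_mul]
    refine ⟨D, D (τ z), hD2, hD3, hDi, fun l => ?_⟩
    rw [← der_comp hz DK hDK τ D, ha l, map_sum]
    have h1 : ∀ j, D (a j * σ j (x l)) =
        (if j = i then a i * σ i (DK (x l)) else 0) + D (a j) * σ j (x l) := by
      intro j
      rw [D.leibniz, smul_eq_mul, smul_eq_mul]
      split_ifs with h
      · subst h; rw [hDi]; ring
      · rw [hD2 _ (hσM i j h _)]; ring
    rw [Finset.sum_congr rfl fun j _ => h1 j, Finset.sum_add_distrib, Finset.sum_ite_eq']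
    simp
  -- independence of the coordinates over the constants
  have hli : ∀ j (f : ι → Ω), (∀ i, f i ∈ cl k (Z '' {j}ᶜ)) → ∑ i, f i * σ j (x i) = 0 → f = 0 :=
    fun j f hf h0 => ld hz (σ j) (closed_cl _) (hzM j) hx hf h0
  obtain ⟨D, c, hD1, hD2, hD3, hD4⟩ := key j₀
  have hc : c ≠ 0 := by
    rintro rfl
    refine ode D _ N (hMN j₀) hD1 hD2 (fun i => σ j₀ (x i)) (fun i => hσN _ _) (hli j₀)
      (κ := {j // j ≠ j₀}) (fun j i => σ j.1 (x i)) (fun j i => hσM j₀ j.1 j.2 _) ?_
      (-(D (a j₀)) / a j₀) (fun j => -(D (a j.1)) / a j₀) fun l => ?_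
    · rw [Fintype.card_subtype_compl, Fintype.card_fin, Fintype.card_unique]
      omega
    · have h1 := hD4 l
      rw [zero_mul, ← Finset.add_sum_erase _ _ (Finset.mem_univ j₀)] at h1
      have h2 : ∑ j : {j // j ≠ j₀}, (-(D (a j.1)) / a j₀) * σ j.1 (x l) =
          ∑ j ∈ Finset.univ.erase j₀, (-(D (a j)) / a j₀) * σ j (x l) := by
        rw [← Finset.sum_subtype (Finset.univ.erase j₀) (fun j => by simp)
          (fun j => (-(D (a j)) / a j₀) * σ j (x l))]
      rw [h2, hD3]
      have h3 : ∑ j ∈ Finset.univ.erase j₀, (-(D (a j)) / a j₀) * σ j (x l) =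
          -(∑ j ∈ Finset.univ.erase j₀, D (a j) * σ j (x l)) / a j₀ := by
        rw [neg_div, Finset.sum_div, ← Finset.sum_neg_distrib]
        exact Finset.sum_congr rfl fun j _ => by ring
      rw [h3]
      field_simp
      linear_combination -h1
  obtain ⟨D', c', hD1', hD2', hD3', hD4'⟩ := key j₁
  refine ode D' _ N (hMN j₁) hD1' hD2' (fun i => σ j₁ (x i)) (fun i => hσN _ _) (hli j₁)
      (κ := Option {j // j ≠ j₁}) (fun o i => o.elim (σ j₀ (DK (x i))) fun j => σ j.1 (x i)) ?_ ?_
      ((c' / c * D (a j₁) - D' (a j₁)) / a j₁)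
      (fun o => o.elim (c' / c * a j₀ / a j₁) fun j => (c' / c * D (a j.1) - D' (a j.1)) / a j₁)
      fun l => ?_
  · rintro (_ | j) i
    · exact hσM j₁ j₀ hne _
    · exact hσM j₁ j.1 j.2 _
  · rw [Fintype.card_option, Fintype.card_subtype_compl, Fintype.card_fin, Fintype.card_unique]
    omega
  · have h1 := hD4 l
    have h1' := hD4' l
    rw [← Finset.add_sum_erase _ _ (Finset.mem_univ j₁)] at h1 h1'
    rw [Fintype.sum_option]
    simp only [Option.elim_none, Option.elim_some]
    have h2 : ∑ j : {j // j ≠ j₁}, (c' / c * D (a j.1) - D' (a j.1)) / a j₁ * σ j.1 (x l) =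
        ∑ j ∈ Finset.univ.erase j₁, (c' / c * D (a j) - D' (a j)) / a j₁ * σ j (x l) := by
      rw [← Finset.sum_subtype (Finset.univ.erase j₁) (fun j => by simp)
        (fun j => (c' / c * D (a j) - D' (a j)) / a j₁ * σ j (x l))]
    have h3 : ∑ j ∈ Finset.univ.erase j₁, (c' / c * D (a j) - D' (a j)) / a j₁ * σ j (x l) =
        (c' / c * (∑ j ∈ Finset.univ.erase j₁, D (a j) * σ j (x l)) -
          ∑ j ∈ Finset.univ.erase j₁, D' (a j) * σ j (x l)) / a j₁ := by
      rw [Finset.mul_sum, ← Finset.sum_sub_distrib, Finset.sum_div]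
      exact Finset.sum_congr rfl fun j _ => by ring
    rw [h2, h3, hD3']
    field_simp
    field_simp at h1 h1'
    linear_combination c' * h1 - c * h1'

/-- General position lemma. -/
theorem main {z : K} (hz : Algebra.IsAlgebraic (IntermediateField.adjoin k {z}) K)
    (hzt : Transcendental k z)
    {ι : Type} [Fintype ι] (x : ι → K) (hx : LinearIndependent k x) {i₀ : ι} (hi₀ : x i₀ = 1)
    (hgen : ∀ σ τ : K →ₐ[k] Ω, (∀ i, σ (x i) = τ (x i)) → σ = τ)
    (t : ι → Ω) (ht : AlgebraicIndependent k t) :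
    ∀ (m : ℕ) (σ : Fin m → K →ₐ[k] Ω), Function.Injective σ → (∀ j, ∑ i, t i * σ j (x i) = 0) →
      m + 1 ≤ Fintype.card ι → LinearIndependent Ω (fun j i => σ j (x i)) := by
  classical
  have : Nonempty ι := ⟨i₀⟩
  intro m
  induction m with
  | zero => intro σ _ _ _; exact linearIndependent_empty_type
  | succ m ih =>
    intro σ hσ ht0 hcard
    by_contra hnot
    obtain ⟨g, hg, j', hj'⟩ := Fintype.not_linearIndependent_iff.1 hnot
    have hall : ∀ j, g j ≠ 0 := by
      intro j hj
      have h1 := ih (fun i => σ (j.succAbove i)) (hσ.comp Fin.succAbove_right_injective)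
        (fun i => ht0 _) (by omega)
      rw [Fin.sum_univ_succAbove _ j, hj, zero_smul, zero_add] at hg
      have h2 := Fintype.linearIndependent_iff.1 h1 (fun i => g (j.succAbove i)) hg
      rcases eq_or_ne j' j with rfl | hne
      · exact hj' hj
      · obtain ⟨i, hi⟩ := Fin.exists_succAbove_eq hne
        exact hj' (by rw [← hi]; exact h2 i)
    have hgl : ∀ l, ∑ j, g j * σ j (x l) = 0 := fun l => by
      have := congrFun hg l
      simpa using this
    have ha : ∀ l, σ (Fin.last m) (x l) =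
        ∑ j : Fin m, (-(g j.castSucc) / g (Fin.last m)) * σ j.castSucc (x l) := by
      intro l
      have h1 := hgl l
      rw [Fin.sum_univ_castSucc] at h1
      have h2 : ∑ j : Fin m, (-(g j.castSucc) / g (Fin.last m)) * σ j.castSucc (x l) =
          -(∑ j : Fin m, g j.castSucc * σ j.castSucc (x l)) / g (Fin.last m) := by
        rw [neg_div, Finset.sum_div, ← Finset.sum_neg_distrib]
        exact Finset.sum_congr rfl fun j _ => by ring
      rw [h2, eq_div_iff (hall _)]
      linear_combination h1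
    match m, ih, σ, hσ, ht0, hcard, g, hall, ha with
    | 0, ih, σ, hσ, ht0, hcard, g, hall, ha =>
      have := ha i₀
      rw [hi₀, map_one] at this
      simp at this
    | 1, ih, σ, hσ, ht0, hcard, g, hall, ha =>
      have h1 := ha i₀
      rw [hi₀, map_one] at h1
      simp only [Finset.univ_unique, Fin.default_eq_zero, Finset.sum_singleton, map_one,
        mul_one] at h1
      have h2 : σ (Fin.last 1) = σ (Fin.castSucc 0) := by
        apply hgen
        intro l
        rw [ha l]
        simp only [Finset.univ_unique, Fin.default_eq_zero, Finset.sum_singleton, ← h1, one_mul]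
      have := hσ h2
      simp at this
    | m + 2, ih, σ, hσ, ht0, hcard, g, hall, ha =>
      refine core hz hzt x hx t ht (fun j => σ j.castSucc) (σ (Fin.last _))
        (ih _ (hσ.comp (Fin.castSucc_injective _)) (fun j => ht0 _) (by omega)) (fun j => ht0 _)
        (fun j => -(g j.castSucc) / g (Fin.last _)) ha 0 1 (by simp)
        (div_ne_zero (neg_ne_zero.2 (hall _)) (hall _))
        (div_ne_zero (neg_ne_zero.2 (hall _)) (hall _)) (by omega)

end K466.GenPos
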