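import Groth.Agent.Curves.K466.Spread
import Groth.Agent.Curves.K466.GenPos
import Mathlib.FieldTheory.PrimitiveElement
import Mathlib.RingTheory.Localization.Module

/-!
# The points of the generic hyperplane section

`exists_points`: if the `e_j`, `j < d`, are linearly independent over `k(∑ a_i y_i)`, the generic
hyperplane section of the curve with affine coordinates `y` has at least `d` points.
-/

set_option autoImplicit false
set_option linter.unusedSectionVars false
universe u
open Polynomial IntermediateField

namespace K466.Points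

open K466.Clos K466.DerPts K466.Spread K466.GenPos

theorem cl_le_of {k Ω : Type u} [Field k] [Field Ω] [Algebra k Ω] {M N : IntermediateField k Ω}
    (hN : Closed N) (hM : M ≤ N) {S : Set Ω} (hS : S ⊆ N) {y : Ω} (hy : y ∈ cl M S) : y ∈ N := by
  have h1 : Closed (IntermediateField.extendScalars hM) := fun y hy => hN y hy
  exact cl_le h1 (S := S) hS hy

variable {k K : Type u} [Field k] [IsAlgClosed k] [CharZero k] [Field K] [Algebra k K]
  {κ : Type} [Fintype κ]

open scoped IntermediateField.algebraAdjoinAdjoin in
/-- Everything is algebraic over the coefficients of the generic hyperplane. -/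
theorem mem_cl_all {L : Type u} [Field L] [Algebra k L] {z : K}
    (hz : Algebra.IsAlgebraic (IntermediateField.adjoin k {z}) K) (ι : K →ₐ[k] L) (y : κ → K)
    (t : Option κ → L) (ht : AlgebraicIndependent k t)
    (htr : t none + ∑ i, t (some i) * ι (y i) = 0) (x : K) :
    ι x ∈ cl k (Set.range t) := by
  have ht' : AlgebraicIndependent k (fun o : Option κ => o.elim (t none) (fun i => t (some i))) := by
    convert ht using 1
    funext o
    cases o <;> rfl
  rw [AlgebraicIndependent.option_iff] at ht'
  set T : Set L := Set.range fun i => t (some i) with hT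
  let M₀ := IntermediateField.adjoin k T
  have hTM : ∀ i, t (some i) ∈ M₀ := fun i => IntermediateField.subset_adjoin k T ⟨i, rfl⟩
  have h1 : ¬ IsAlgebraic M₀ (t none) := fun h => ht'.2 (h.restrictScalars _)
  have h2 : t none ∈ cl M₀ {ι z} := by
    have h3 : Closed ((cl M₀ {ι z}).restrictScalars k) := closed_restrict (closed_cl _)
    have h4 : ∀ x, ι x ∈ (cl M₀ {ι z}).restrictScalars k :=
      mem_of_mem hz ι h3 (subset_cl (k := M₀) {ι z} rfl)
    have h5 : t none = -∑ i, t (some i) * ι (y i) := by linear_combination htr
    rw [h5]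
    refine neg_mem (sum_mem fun i _ => mul_mem ?_ (h4 _))
    exact (cl M₀ {ι z}).algebraMap_mem (⟨t (some i), hTM i⟩ : M₀)
  have h3 := exch h2 h1
  have h4 : ι z ∈ cl k (Set.range t) := by
    refine cl_le_of (closed_cl _) ?_ ?_ h3
    · rw [IntermediateField.adjoin_le_iff]
      rintro _ ⟨i, rfl⟩
      exact subset_cl _ ⟨some i, rfl⟩
    · rintro _ rfl
      exact subset_cl _ ⟨none, rfl⟩
  exact mem_of_mem hz ι (closed_cl _) h4 x

/-- Algebraicity over a field mapping onto the subfield. -/
theorem isAlgebraic_of {E L : Type u} [Field E] [Field L] [Algebra k E] [Algebra k L] [Algebra E L]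
    [IsScalarTower k E L] {S : Set L} (hS : ∀ s ∈ S, ∃ e : E, algebraMap E L e = s) {x : L}
    (hx : x ∈ cl k S) : IsAlgebraic E x := by
  have hE : Closed ((algebraicClosure E L).restrictScalars k) := by
    intro y hy
    have h1 : Algebra.IsAlgebraic E (algebraicClosure E L) := inferInstance
    have h2 : IsAlgebraic (algebraicClosure E L) y := hy
    exact mem_algebraicClosure_iff.2 (h2.restrictScalars E)
  have h3 : cl k S ≤ (algebraicClosure E L).restrictScalars k := by
    refine cl_le hE fun s hs => ?_
    obtain ⟨e, rfl⟩ := hS s hs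
    exact mem_algebraicClosure_iff.2 (isAlgebraic_algebraMap e)
  exact mem_algebraicClosure_iff.1 (h3 hx)

/-- The embeddings, abstractly. -/
theorem exists_emb {E L : Type u} [Field E] [Field L] [Algebra k E] [Algebra k L] [Algebra E L]
    [IsScalarTower k E L] [Algebra.IsAlgebraic E L] (ι : K →ₐ[k] L) (y : κ → K) (t : Option κ → E)
    (ht : AlgebraicIndependent k t)
    (htr : algebraMap E L (t none) + ∑ i, algebraMap E L (t (some i)) * ι (y i) = 0)
    {d : ℕ} (e : Fin d → K) (he : LinearIndependent E fun j => ι (e j)) :
    ∃ (Ω : Type u) (_ : Field Ω) (_ : Algebra k Ω) (_ : IsAlgClosed Ω) (t' : Option κ → Ω)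
      (σ : Fin d → K →ₐ[k] Ω), AlgebraicIndependent k t' ∧ Function.Injective σ ∧
      ∀ j, ∑ o, t' o * σ j (o.elim 1 y) = 0 := by
  classical
  have hchE : CharZero E := charZero_of_injective_algebraMap (algebraMap k E).injective
  let Ω := AlgebraicClosure E
  let S : Set L := Set.range fun j => ι (e j)
  have hSf : S.Finite := Set.finite_range _
  let M := IntermediateField.adjoin E S
  have hSf' : Finite S := hSf.to_subtype
  have hfin : FiniteDimensional E M := IntermediateField.finiteDimensional_adjoin fun x _ =>
    (Algebra.IsAlgebraic.isAlgebraic (R := E) x).isIntegral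
  have hcard : Fintype.card (M →ₐ[E] Ω) = Module.finrank E M := AlgHom.card E M Ω
  have hd : d ≤ Module.finrank E M := by
    have h1 : LinearIndependent E (fun j => (⟨ι (e j), IntermediateField.subset_adjoin E S ⟨j, rfl⟩⟩ : M)) := by
      refine LinearIndependent.of_comp M.val.toLinearMap ?_
      exact he
    simpa using h1.fintype_card_le_finrank
  have hle : Fintype.card (Fin d) ≤ Fintype.card (M →ₐ[E] Ω) := by
    rw [hcard, Fintype.card_fin]; exact hd
  obtain ⟨f⟩ := Function.Embedding.nonempty_of_card_le hle
  have hext : ∀ g : M →ₐ[E] Ω, ∃ G : L →ₐ[E] Ω, G.comp M.val = g := by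
    intro g
    let _ : Algebra M Ω := g.toRingHom.toAlgebra
    have : IsScalarTower E M Ω := IsScalarTower.of_algebraMap_eq fun x => (g.commutes x).symm
    have : Algebra.IsAlgebraic M L := Algebra.IsAlgebraic.tower_top (K := E) M
    let G : L →ₐ[M] Ω := IsAlgClosed.lift
    refine ⟨G.restrictScalars E, ?_⟩
    ext x
    exact G.commutes x
  choose G hG using hext
  let σ : Fin d → K →ₐ[k] Ω := fun j => ((G (f j)).restrictScalars k).comp ι
  refine ⟨Ω, inferInstance, inferInstance, inferInstance, fun o => algebraMap E Ω (t o), σ, ?_, ?_, ?_⟩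
  · have h1 := ht.map' (f := IsScalarTower.toAlgHom k E Ω) (algebraMap E Ω).injective
    exact h1
  · intro i j hij
    have h1 : f i = f j := by
      rw [← hG (f i), ← hG (f j)]
      refine IntermediateField.adjoin_algHom_ext E ?_
      rintro _ ⟨l, rfl⟩
      exact DFunLike.congr_fun hij (e l)
    exact f.injective h1
  · intro j
    rw [Fintype.sum_option]
    have h1 := congrArg (G (f j)) htr
    simp only [map_add, map_sum, map_mul, AlgHom.commutes, map_zero] at h1
    simp only [Option.elim_none, map_one, mul_one, Option.elim_some]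
    exact h1

section concrete

variable (y : κ → K) (a : κ → k) {d : ℕ} (e : Fin d → K)

/-- The map `k[T][U] → K[T]`, `U ↦ -∑ T_i y_i`. -/
noncomputable def Phi (y : κ → K) : (MvPolynomial κ k)[X] →ₐ[k] MvPolynomial κ K :=
  { Polynomial.eval₂RingHom (MvPolynomial.map (algebraMap k K)) (gen fun i => - y i) with
    commutes' := fun c => by
      change Polynomial.eval₂ _ _ (algebraMap k (MvPolynomial κ k)[X] c) = _
      rw [IsScalarTower.algebraMap_apply k (MvPolynomial κ k) (MvPolynomial κ k)[X],
        Polynomial.algebraMap_eq, Polynomial.eval₂_C, MvPolynomial.algebraMap_eq, MvPolynomial.map_C]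
      rfl }

theorem Phi_apply (P : (MvPolynomial κ k)[X]) :
    Phi y P = P.eval₂ (MvPolynomial.map (algebraMap k K)) (gen fun i => - y i) := rfl

theorem rel (he : LIp k (∑ i, algebraMap k K (a i) * y i) e) (P : Fin d → (MvPolynomial κ k)[X])
    (h : ∑ j, Phi y (P j) * MvPolynomial.C (e j) = 0) : P = 0 := by
  refine multi (fun i => - y i) (fun i => - a i) e ?_ P h
  simpa using he

theorem Phi_injective (he : LIp k (∑ i, algebraMap k K (a i) * y i) e) (hd : 0 < d) :
    Function.Injective (Phi (k := k) y) := by
  classical
  rw [injective_iff_map_eq_zero]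
  intro P hP
  have h1 := rel y a e he (fun j => if j = ⟨0, hd⟩ then P else 0) (by
    refine Finset.sum_eq_zero fun j _ => ?_
    by_cases hj : j = ⟨0, hd⟩
    · rw [if_pos hj, hP, zero_mul]
    · rw [if_neg hj, map_zero, zero_mul])
  have := congrFun h1 ⟨0, hd⟩
  simpa using this

/-- **The points of the generic hyperplane section.** -/
theorem exists_points {z : K} (hz : Algebra.IsAlgebraic (IntermediateField.adjoin k {z}) K)
    (he : LIp k (∑ i, algebraMap k K (a i) * y i) e) (hd : 0 < d) :
    ∃ (Ω : Type u) (_ : Field Ω) (_ : Algebra k Ω) (_ : IsAlgClosed Ω) (t' : Option κ → Ω)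
      (σ : Fin d → K →ₐ[k] Ω), AlgebraicIndependent k t' ∧ Function.Injective σ ∧
      ∀ j, ∑ o, t' o * σ j (o.elim 1 y) = 0 := by
  classical
  let B := (MvPolynomial κ k)[X]
  let R := MvPolynomial κ K
  let E := FractionRing B
  let L := FractionRing R
  have hinj : Function.Injective (Phi (k := k) y) := Phi_injective y a e he hd
  let ΨB : B →ₐ[k] L := (IsScalarTower.toAlgHom k R L).comp (Phi y)
  have hΨB : Function.Injective ΨB := (IsFractionRing.injective R L).comp hinj
  let Ψ : E →ₐ[k] L := IsFractionRing.liftAlgHom (g := ΨB) hΨB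
  have hΨ : ∀ b : B, Ψ (algebraMap B E b) = algebraMap R L (Phi y b) := fun b =>
    IsFractionRing.lift_algebraMap (g := ΨB.toRingHom) hΨB b
  let _ : Algebra E L := Ψ.toRingHom.toAlgebra
  have hEL : ∀ x : E, algebraMap E L x = Ψ x := fun _ => rfl
  have : IsScalarTower k E L := IsScalarTower.of_algebraMap_eq fun x => (Ψ.commutes x).symm
  let _ : Algebra B L := ΨB.toRingHom.toAlgebra
  have hBL : ∀ x : B, algebraMap B L x = algebraMap R L (Phi y x) := fun _ => rfl
  have : IsScalarTower B E L := IsScalarTower.of_algebraMap_eq fun x => (hΨ x).symm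
  let ι : K →ₐ[k] L := (IsScalarTower.toAlgHom k R L).comp
    (IsScalarTower.toAlgHom k K R)
  have hι : ∀ x, ι x = algebraMap R L (MvPolynomial.C x) := fun _ => rfl
  let t : Option κ → E := fun o => o.elim (algebraMap B E X) fun i => algebraMap B E (C (MvPolynomial.X i))
  have ht : AlgebraicIndependent k t := by
    rw [algebraicIndependent_iff_injective_aeval]
    have h1 : (MvPolynomial.aeval t : MvPolynomial (Option κ) k →ₐ[k] E) =
        (IsScalarTower.toAlgHom k B E).comp (MvPolynomial.optionEquivLeft k κ).toAlgHom := by
      ext o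
      cases o with
      | none => simp [t]
      | some i => simp [t]
    rw [h1]
    exact (IsFractionRing.injective B E).comp (MvPolynomial.optionEquivLeft k κ).injective
  have htn : algebraMap E L (t none) = algebraMap R L (gen fun i => - y i) := by
    rw [hEL]
    change Ψ (algebraMap B E X) = _
    rw [hΨ, Phi_apply, Polynomial.eval₂_X]
  have hts : ∀ i, algebraMap E L (t (some i)) = algebraMap R L (MvPolynomial.X i) := by
    intro i
    rw [hEL]
    change Ψ (algebraMap B E (C (MvPolynomial.X i))) = _
    rw [hΨ, Phi_apply, Polynomial.eval₂_C, MvPolynomial.map_X]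
  have htr : algebraMap E L (t none) + ∑ i, algebraMap E L (t (some i)) * ι (y i) = 0 := by
    rw [htn]
    simp only [hts, hι]
    rw [gen, map_sum, ← Finset.sum_add_distrib]
    refine Finset.sum_eq_zero fun i _ => ?_
    rw [map_mul, map_neg, map_neg]
    ring
  have htL : AlgebraicIndependent k fun o => algebraMap E L (t o) :=
    ht.map' (f := IsScalarTower.toAlgHom k E L) (algebraMap E L).injective
  have halgK : ∀ x, IsAlgebraic E (ι x) := fun x => isAlgebraic_of (S := Set.range fun o => algebraMap E L (t o))
    (by rintro _ ⟨o, rfl⟩; exact ⟨_, rfl⟩) (mem_cl_all hz ι y _ htL htr x)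
  have halg : Algebra.IsAlgebraic E L := by
    let N := algebraicClosure E L
    have hR : ∀ p : R, algebraMap R L p ∈ N := by
      intro p
      induction p using MvPolynomial.induction_on with
      | C x => exact mem_algebraicClosure_iff.2 (halgK x)
      | add p q hp hq => rw [map_add]; exact add_mem hp hq
      | mul_X p i hp =>
        rw [map_mul, ← hts i]
        exact mul_mem hp (N.algebraMap_mem _)
    refine ⟨fun x => ?_⟩
    obtain ⟨p, q, hq, rfl⟩ := IsFractionRing.div_surjective (A := R) x
    exact mem_algebraicClosure_iff.1 (div_mem (hR p) (hR q))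
  have hLI : LinearIndependent E fun j => ι (e j) := by
    rw [← LinearIndependent.iff_fractionRing B E]
    rw [Fintype.linearIndependent_iff]
    intro g hg j
    have h1 : ∑ j, Phi y (g j) * MvPolynomial.C (e j) = 0 := by
      apply IsFractionRing.injective R L
      rw [map_zero, ← hg, map_sum]
      refine Finset.sum_congr rfl fun j _ => ?_
      rw [map_mul, Algebra.smul_def, hBL, hι]
    exact congrFun (rel y a e he g h1) j
  exact exists_emb ι y t ht htr e hLI

end concrete

end K466.Points
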