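import Groth.Agent.Curves.K466.FrameRat
import Groth.Agent.Ega2.H18.PnExist
import Groth.Agent.Lefpen.H705.PointCoord
import Groth.Agent.PerfB.ProjSpaceCover

/-!
# The standard frame of `O(1)` with its affine coordinates

* `fr`: the coordinate sections of `O(1)`, with `g j l = T_j / T_l`;
* `g_succ`: `T_{i+1} / T_0` is the coordinate function `x_i` on `D_+(T_0)`;
* `comb_ne_zero`: a nonzero linear combination of the coordinate sections is not zero.
-/

set_option autoImplicit false
universe u
open CategoryTheory CategoryTheory.Limits AlgebraicGeometry Opposite TopologicalSpace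
open Groth.Agent.Fdesc.LocGen Groth.Agent.Ega3B.Frame
open Groth.Agent.Lefpen.H705.ChartPoly Groth.Agent.Lefpen.H705.PointCoord

namespace K466.ProjFr

open Groth.Agent

variable {k : Type u} [Field k] {r : ℕ}

theorem gen_eq (j : Fin (r + 1)) :
    res (Twist.twistProjSpace r k 1) (le_top : LefPen.chart r k j ≤ ⊤) (ProjUP.coord r k j) =
      Ega2.VeryAmpleCrit.gen k j := rfl

/-- The standard frame. -/
noncomputable def fr (k : Type u) [Field k] (r : ℕ) :
    SecFrame (X := CohB1.ProjSpace r k) (Twist.twistProjSpace r k 1) (Fin (r + 1)) where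
  s j := ProjUP.coord r k j
  W j := LefPen.chart r k j
  g j l := VarietyB.ProjStd.ratio (Fin (r + 1)) k l j
  cov := PerfB.ProjSpaceCover.iSup_basicOpen_X r k
  gen j := Ega2.VeryAmpleCrit.isGen_gen j
  eq_smul j l := Ega2.H18.PnExist.res_coord (R := k) r j l
  basic j l := (VarietyB.ProjStd.stdData_basicOpen (Fin (r + 1)) k l j).trans (inf_comm _ _)

/-- Polynomials in the affine coordinates. -/
noncomputable def pc (j : Fin (r + 1)) :
    MvPolynomial (Fin r) k →+* Γ(CohB1.ProjSpace r k, (fr k r).W j) := polyToChart j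

theorem pc_injective (j : Fin (r + 1)) : Function.Injective (pc (r := r) (k := k) j) :=
  (polyToChart_bijective j).1

theorem pc_surjective (j : Fin (r + 1)) : Function.Surjective (pc (r := r) (k := k) j) :=
  (polyToChart_bijective j).2

theorem g_succ (i : Fin r) :
    (fr k r).g i.succ 0 = pc (k := k) 0 (MvPolynomial.X i) := by
  refine congrArg (Proj.awayToSection (CohB1.polyGrading r k) (MvPolynomial.X 0)).hom ?_
  rw [VarietyB.ProjStd.deh, MvPolynomial.eval₂Hom_X', Sga5.ProjChart.ofPoly, MvPolynomial.eval₂Hom_X']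
  rfl

theorem g_self (j : Fin (r + 1)) : (fr k r).g j j = 1 := by
  apply ((fr k r).gen j).ext
  rw [one_smul, ← (fr k r).eq_smul]

/-- Constants as global functions. -/
noncomputable def cst (k : Type u) [Field k] (r : ℕ) (c : k) : Γ(CohB1.ProjSpace r k, ⊤) :=
  (CohB1.ProjSpace.toSpec r k).appTop.hom ((Scheme.ΓSpecIso (CommRingCat.of k)).inv.hom c)

theorem ores_cst (j : Fin (r + 1)) (c : k) :
    ores (le_top : (fr k r).W j ≤ ⊤) (cst k r c) = pc j (MvPolynomial.C c) := by
  refine Eq.trans ?_ (polyToChart_C j c).symm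
  rfl

theorem poly_eq_zero {c : Fin (r + 1) → k}
    (h : MvPolynomial.C (c 0) + ∑ i : Fin r, MvPolynomial.C (c i.succ) * MvPolynomial.X i = 0) :
    c = 0 := by
  classical
  funext j
  refine Fin.cases ?_ (fun i => ?_) j
  · have h1 := congrArg (MvPolynomial.coeff 0) h
    simpa [MvPolynomial.coeff_sum] using h1
  · have h1 := congrArg (MvPolynomial.coeff (Finsupp.single i 1)) h
    rw [MvPolynomial.coeff_add, MvPolynomial.coeff_sum, MvPolynomial.coeff_zero] at h1
    have h2 : ∀ l : Fin r, MvPolynomial.coeff (Finsupp.single i 1)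
        (MvPolynomial.C (c l.succ) * MvPolynomial.X l) = if l = i then c l.succ else 0 := by
      intro l
      rw [MvPolynomial.coeff_C_mul, MvPolynomial.coeff_X]
      by_cases hl : l = i
      · subst hl; simp
      · rw [if_neg hl, if_neg, mul_zero]
        intro h3
        exact hl (Finsupp.single_left_injective one_ne_zero h3)
    rw [Finset.sum_congr rfl fun l _ => h2 l, Finset.sum_ite_eq' Finset.univ i,
      if_pos (Finset.mem_univ i), MvPolynomial.coeff_C, if_neg] at h1
    · simpa using h1
    · intro h3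
      have := congrArg (fun f => f i) h3
      simp at this

/-- A vanishing linear combination of the coordinate sections is trivial. -/
theorem comb_eq_zero {c : Fin (r + 1) → k} (h : ∑ j, cst k r (c j) • (fr k r).s j = 0) : c = 0 := by
  have h1 := congrArg (res (Twist.twistProjSpace r k 1) (le_top : (fr k r).W 0 ≤ ⊤)) h
  rw [map_zero, map_sum] at h1
  have h2 : ∀ j, res (Twist.twistProjSpace r k 1) (le_top : (fr k r).W 0 ≤ ⊤)
      (cst k r (c j) • (fr k r).s j) =
      (pc 0 (MvPolynomial.C (c j)) * (fr k r).g j 0) •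
        res (Twist.twistProjSpace r k 1) (le_top : (fr k r).W 0 ≤ ⊤) ((fr k r).s 0) := by
    intro j
    rw [res_smul, (fr k r).eq_smul j 0, mul_smul, ← ores_cst]
  rw [Finset.sum_congr rfl fun j _ => h2 j, ← Finset.sum_smul] at h1
  have h3 : ∑ j, pc 0 (MvPolynomial.C (c j)) * (fr k r).g j 0 = 0 :=
    ((fr k r).gen 0).ext (h1.trans (zero_smul _ _).symm)
  rw [Fin.sum_univ_succ, g_self, mul_one] at h3
  have h4 : pc (r := r) (k := k) 0 (MvPolynomial.C (c 0) +
      ∑ i : Fin r, MvPolynomial.C (c i.succ) * MvPolynomial.X i) = 0 := by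
    rw [map_add, map_sum, ← h3]
    congr 1
    refine Finset.sum_congr rfl fun i _ => ?_
    rw [map_mul, g_succ]
  exact poly_eq_zero (pc_injective 0 (h4.trans (map_zero _).symm))

end K466.ProjFr
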