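import Mathlib.Algebra.MvPolynomial.Equiv
import Mathlib.Algebra.MvPolynomial.Funext
import Mathlib.Algebra.Polynomial.Div
import Mathlib.FieldTheory.IsAlgClosed.Basic
import Mathlib.RingTheory.Polynomial.Basic

/-!
# Linear independence over the field generated by a general linear form

`multi`: if `e_j` are linearly independent over `k[u]`, `u = ∑ a_i y_i`, then they are linearly
independent over `k[T][∑ T_i y_i]`, `T` a family of indeterminates.
-/

set_option autoImplicit false
universe u
open Polynomial

namespace K466.Spread

variable {k K : Type u} [Field k] [Field K] [Algebra k K] {J : Type} [Fintype J]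

/-- The `e_j` are linearly independent over `k[u]`. -/
def LIp (k : Type u) [Field k] [Algebra k K] (u : K) (e : J → K) : Prop :=
  ∀ p : J → k[X], ∑ j, Polynomial.aeval u (p j) * e j = 0 → p = 0

theorem one_var_aux (u x : K) (e : J → K) (h : LIp k u e) : ∀ (N : ℕ) (P : J → k[X][X]),
    (∀ j i, ((P j).coeff i).degree < N) →
    ∑ j, (P j).eval₂ (Polynomial.mapRingHom (algebraMap k K)) (C u + X * C x) * C (e j) = 0 →
    P = 0 := by
  intro N
  induction N with
  | zero =>
    intro P hP _
    funext j
    ext1 i
    have := (Polynomial.degree_lt_iff_coeff_zero _ 0).1 (hP j i)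
    rw [Pi.zero_apply, Polynomial.coeff_zero]
    ext1 m
    rw [this m (Nat.zero_le _), Polynomial.coeff_zero]
  | succ N ih =>
    intro P hP hrel
    have h1 : (fun j => (P j).map (Polynomial.evalRingHom 0)) = 0 := by
      apply h
      have h2 := congrArg (Polynomial.evalRingHom (0 : K)) hrel
      rw [map_sum, map_zero] at h2
      rw [← h2]
      refine Finset.sum_congr rfl fun j _ => ?_
      rw [map_mul, Polynomial.hom_eval₂, Polynomial.aeval_def, Polynomial.eval₂_map]
      congr 1
      · congr 1
        · ext a
          · simp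
          · simp
        · simp
      · simp
    have h2 : ∀ j, (C (X : k[X])) ∣ P j := by
      intro j
      rw [Polynomial.C_dvd_iff_dvd_coeff]
      intro i
      rw [Polynomial.X_dvd_iff]
      have h3 := congrArg (fun q => q.coeff i) (congrFun h1 j)
      simp only [Polynomial.coeff_map, Pi.zero_apply, Polynomial.coeff_zero] at h3
      rw [Polynomial.coeff_zero_eq_eval_zero]
      exact h3
    choose P' hP' using h2
    have h3 : P' = 0 := by
      apply ih
      · intro j i
        have h4 := hP j i
        rw [hP' j, Polynomial.coeff_C_mul] at h4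
        rcases eq_or_ne ((P' j).coeff i) 0 with h5 | h5
        · rw [h5, Polynomial.degree_zero]
          exact WithBot.bot_lt_coe _
        · rw [Polynomial.degree_mul, Polynomial.degree_X] at h4
          rw [Polynomial.degree_eq_natDegree h5] at h4 ⊢
          have h6 : 1 + (P' j |>.coeff i).natDegree < N + 1 := by exact_mod_cast h4
          have h7 : (P' j |>.coeff i).natDegree < N := by omega
          exact_mod_cast h7
      · have h4 : (X : K[X]) * ∑ j, (P' j).eval₂ (Polynomial.mapRingHom (algebraMap k K))
            (C u + X * C x) * C (e j) = 0 := by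
          rw [← hrel, Finset.mul_sum]
          refine Finset.sum_congr rfl fun j _ => ?_
          conv_rhs => rw [hP' j, Polynomial.eval₂_mul, Polynomial.eval₂_C]
          rw [Polynomial.coe_mapRingHom, Polynomial.map_X]
          ring
        exact (mul_eq_zero.1 h4).resolve_left Polynomial.X_ne_zero
    funext j
    rw [hP' j, h3]
    simp

theorem one_var (u x : K) (e : J → K) (h : LIp k u e) (P : J → k[X][X])
    (hrel : ∑ j, (P j).eval₂ (Polynomial.mapRingHom (algebraMap k K)) (C u + X * C x) * C (e j) = 0) :
    P = 0 := by
  classical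
  let N : ℕ := ∑ j, ∑ i ∈ (P j).support, (((P j).coeff i).natDegree + 1)
  refine one_var_aux u x e h N P (fun j i => ?_) hrel
  by_cases hi : (P j).coeff i = 0
  · rw [hi, Polynomial.degree_zero]
    exact WithBot.bot_lt_coe _
  · rw [Polynomial.degree_eq_natDegree hi]
    have h1 : ((P j).coeff i).natDegree + 1 ≤ ∑ i ∈ (P j).support, (((P j).coeff i).natDegree + 1) :=
      Finset.single_le_sum (f := fun i => ((P j).coeff i).natDegree + 1) (fun _ _ => Nat.zero_le _)
        (Polynomial.mem_support_iff.2 hi)
    have h2 : ∑ i ∈ (P j).support, (((P j).coeff i).natDegree + 1) ≤ N :=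
      Finset.single_le_sum (f := fun j => ∑ i ∈ (P j).support, (((P j).coeff i).natDegree + 1))
        (fun _ _ => Nat.zero_le _) (Finset.mem_univ j)
    have h3 : ((P j).coeff i).natDegree < N := by omega
    exact_mod_cast h3

variable {κ : Type} [Fintype κ]

/-- The general linear form. -/
noncomputable def gen (y : κ → K) : MvPolynomial κ K := ∑ i, MvPolynomial.X i * MvPolynomial.C (y i)

theorem multi [Infinite k] (y : κ → K) (a : κ → k) (e : J → K)
    (h : LIp k (∑ i, algebraMap k K (a i) * y i) e) (P : J → (MvPolynomial κ k)[X])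
    (hrel : ∑ j, (P j).eval₂ (MvPolynomial.map (algebraMap k K)) (gen y) * MvPolynomial.C (e j) = 0) :
    P = 0 := by
  classical
  by_contra hne
  obtain ⟨j₁, hj₁⟩ := Function.ne_iff.1 hne
  obtain ⟨n, hn⟩ : ∃ n, (P j₁).coeff n ≠ 0 := by
    by_contra hcon
    push Not at hcon
    exact hj₁ (Polynomial.ext fun n => by rw [hcon n]; rfl)
  obtain ⟨c, hc⟩ : ∃ c : κ → k, MvPolynomial.eval c ((P j₁).coeff n) ≠ 0 := by
    by_contra hcon
    push Not at hcon
    exact hn (MvPolynomial.funext fun c => by rw [hcon c, map_zero])
  let θk : MvPolynomial κ k →+* k[X] := MvPolynomial.eval₂Hom C fun i => C (a i) + X * C (c i - a i)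
  let θK : MvPolynomial κ K →+* K[X] := MvPolynomial.eval₂Hom C fun i =>
    C (algebraMap k K (a i)) + X * C (algebraMap k K (c i - a i))
  have hcomp : θK.comp (MvPolynomial.map (algebraMap k K)) =
      (Polynomial.mapRingHom (algebraMap k K)).comp θk := by
    ext i
    · simp [θK, θk]
    · simp [θK, θk]
  have hgen : θK (gen y) = C (∑ i, algebraMap k K (a i) * y i) +
      X * C (∑ i, algebraMap k K (c i - a i) * y i) := by
    rw [gen, map_sum, map_sum, map_sum, Finset.mul_sum, ← Finset.sum_add_distrib]
    refine Finset.sum_congr rfl fun i _ => ?_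
    simp only [θK, map_mul, MvPolynomial.eval₂Hom_X', MvPolynomial.eval₂Hom_C]
    ring
  have h1 := one_var _ (∑ i, algebraMap k K (c i - a i) * y i) e h (fun j => (P j).map θk) (by
    have h2 := congrArg θK hrel
    rw [map_sum, map_zero] at h2
    rw [← h2]
    refine Finset.sum_congr rfl fun j _ => ?_
    rw [map_mul, Polynomial.hom_eval₂ (P j) (MvPolynomial.map (algebraMap k K)) θK (gen y), hcomp, hgen, Polynomial.eval₂_map]
    congr 1
    simp [θK])
  have h2 := congrArg (fun q : k[X][X] => Polynomial.eval 1 (q.coeff n)) (congrFun h1 j₁)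
  simp only [Polynomial.coeff_map, Pi.zero_apply, Polynomial.coeff_zero, Polynomial.eval_zero] at h2
  apply hc
  rw [← h2]
  have h3 : (Polynomial.evalRingHom (1 : k)).comp θk = MvPolynomial.eval c := by
    ext i
    · simp [θk]
    · simp [θk]
  exact (RingHom.congr_fun h3 _).symm

end K466.Spread
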